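import Cfsg.Agent.H47.Fi24.Orb.O1x0
import Cfsg.Agent.H47.Fi24.Orb.O1x1
import Cfsg.Agent.H47.Fi24.Orb.O1x2
import Cfsg.Agent.H47.Fi24.Orb.O1x3
import Cfsg.Agent.H47.Fi24.Orb.O1x4
import Cfsg.Agent.H47.Fi24.Orb.O1x5
import Cfsg.Agent.H47.Fi24.Orb.O2x0
import Cfsg.Agent.H47.Fi24.Orb.O2x1
import Cfsg.Agent.H47.Fi24.Orb.O2x2
import Cfsg.Agent.H47.Fi24.Orb.O2x3
import Cfsg.Agent.H47.Fi24.Orb.O2x4
import Cfsg.Agent.H47.Fi24.Orb.O2x5

/-!
Suborbit certificates (generated data).
-/

set_option autoImplicit false
set_option maxRecDepth 100000
set_option linter.all false
set_option Elab.async false

namespace H47.Fi24.Orb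

open H93.Coset

theorem bitCount_add (m lo a b : ℕ) :
    bitCount m lo (a + b) = bitCount m lo a + bitCount m (lo + a) b := by
  induction b with
  | zero => simp [bitCount]
  | succ b ih =>
    show (bif Nat.testBit m (lo + (a + b)) then bitCount m lo (a + b) + 1 else bitCount m lo (a + b)) =
      bitCount m lo a + (bif Nat.testBit m (lo + a + b) then bitCount m (lo + a) b + 1
        else bitCount m (lo + a) b)
    rw [ih, Nat.add_assoc lo a b]
    cases Nat.testBit m (lo + (a + b)) <;> simp <;> omega

theorem count_glue {m lo a b u v : ℕ} (h1 : bitCount m lo a = u) (h2 : bitCount m (lo + a) b = v) :
    bitCount m lo (a + b) = u + v := by rw [bitCount_add, h1, h2]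

section

attribute [local irreducible] allRange bitCount

theorem tree1 : otreeOK Tab.data mask1 1 pred1 0 306936 = true :=
  (allRange_glue (allRange_glue (allRange_glue (allRange_glue (allRange_glue (allRange_glue (allRange_glue (allRange_glue (allRange_glue (allRange_glue (allRange_glue (allRange_glue (allRange_glue (allRange_glue (allRange_glue (allRange_glue (allRange_glue (allRange_glue (allRange_glue (allRange_glue (allRange_glue (allRange_glue (allRange_glue (allRange_glue (allRange_glue (allRange_glue (allRange_glue (allRange_glue (allRange_glue (allRange_glue (allRange_glue (allRange_glue (allRange_glue (allRange_glue (allRange_glue (allRange_glue (allRange_glue (allRange_glue (allRange_glue (allRange_glue (allRange_glue (allRange_glue (allRange_glue (allRange_glue (allRange_glue (allRange_glue (allRange_glue (allRange_glue (allRange_glue (allRange_glue (allRange_glue (allRange_glue (allRange_glue (allRange_glue (allRange_glue (allRange_glue (allRange_glue (allRange_glue (allRange_glue (allRange_glue (allRange_glue (allRange_glue (allRange_glue (allRange_glue (allRange_glue (allRange_glue (allRange_glue (allRange_glue (allRange_glue (allRange_glue (allRange_glue (allRange_glue (allRange_glue (allRange_glue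 (allRange_glue (allRange_glue (allRange_glue (allRange_glue (allRange_glue (allRange_glue (allRange_glue (allRange_glue (allRange_glue (allRange_glue (allRange_glue (allRange_glue (allRange_glue (allRange_glue (allRange_glue (allRange_glue (allRange_glue (allRange_glue (allRange_glue (allRange_glue (allRange_glue (allRange_glue (allRange_glue (allRange_glue (allRange_glue (allRange_glue (allRange_glue (allRange_glue (allRange_glue (allRange_glue (allRange_glue (allRange_glue (allRange_glue (allRange_glue (allRange_glue (allRange_glue (allRange_glue (allRange_glue (allRange_glue (allRange_glue (allRange_glue (allRange_glue (allRange_glue (allRange_glue (allRange_glue (allRange_glue (allRange_glue (allRange_glue (allRange_glue (allRange_glue (allRange_glue (allRange_glue (allRange_glue tree1_0 tree1_1) tree1_2) tree1_3) tree1_4) tree1_5) tree1_6) tree1_7) tree1_8) tree1_9) tree1_10) tree1_11) tree1_12) tree1_13) tree1_14) tree1_15) tree1_16) tree1_17) tree1_18) tree1_19) tree1_20) tree1_21) tree1_22) tree1_23) tree1_24) tree1_25) tree1_26) tree1_27) tree1_28) tree1_29) tree1_30) tree1_31) tree1_32) tree1_33) tree1_34) tree1_35) tree1_36) tree1_37) tree1_38) tree1_39) tree1_40) tree1_41) tree1_42) tree1_43) tree1_44)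 tree1_45) tree1_46) tree1_47) tree1_48) tree1_49) tree1_50) tree1_51) tree1_52) tree1_53) tree1_54) tree1_55) tree1_56) tree1_57) tree1_58) tree1_59) tree1_60) tree1_61) tree1_62) tree1_63) tree1_64) tree1_65) tree1_66) tree1_67) tree1_68) tree1_69) tree1_70) tree1_71) tree1_72) tree1_73) tree1_74) tree1_75) tree1_76) tree1_77) tree1_78) tree1_79) tree1_80) tree1_81) tree1_82) tree1_83) tree1_84) tree1_85) tree1_86) tree1_87) tree1_88) tree1_89) tree1_90) tree1_91) tree1_92) tree1_93) tree1_94) tree1_95) tree1_96) tree1_97) tree1_98) tree1_99) tree1_100) tree1_101) tree1_102) tree1_103) tree1_104) tree1_105) tree1_106) tree1_107) tree1_108) tree1_109) tree1_110) tree1_111) tree1_112) tree1_113) tree1_114) tree1_115) tree1_116) tree1_117) tree1_118) tree1_119) tree1_120) tree1_121) tree1_122) tree1_123) tree1_124) tree1_125) tree1_126) tree1_127)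

theorem closed1 : oclosedOK Tab.data mask1 0 306936 = true :=
  (allRange_glue (allRange_glue (allRange_glue (allRange_glue (allRange_glue (allRange_glue (allRange_glue (allRange_glue (allRange_glue (allRange_glue (allRange_glue (allRange_glue (allRange_glue (allRange_glue (allRange_glue (allRange_glue (allRange_glue (allRange_glue (allRange_glue (allRange_glue (allRange_glue (allRange_glue (allRange_glue (allRange_glue (allRange_glue (allRange_glue (allRange_glue (allRange_glue (allRange_glue (allRange_glue (allRange_glue (allRange_glue (allRange_glue (allRange_glue (allRange_glue (allRange_glue (allRange_glue (allRange_glue (allRange_glue (allRange_glue (allRange_glue (allRange_glue (allRange_glue (allRange_glue (allRange_glue (allRange_glue (allRange_glue (allRange_glue (allRange_glue (allRange_glue (allRange_glue (allRange_glue (allRange_glue (allRange_glue (allRange_glue (allRange_glue (allRange_glue (allRange_glue (allRange_glue (allRange_glue (allRange_glue (allRange_glue (allRange_glue (allRange_glue (allRange_glue (allRange_glue (allRange_glue (allRange_glue (allRange_glue (allRange_glue (allRange_glue (allRange_glue (allRange_glue (allRange_glue (allRange_glue (allRange_glue (allRange_glue (allRange_glue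 (allRange_glue (allRange_glue (allRange_glue (allRange_glue (allRange_glue (allRange_glue (allRange_glue (allRange_glue (allRange_glue (allRange_glue (allRange_glue (allRange_glue (allRange_glue (allRange_glue (allRange_glue (allRange_glue (allRange_glue (allRange_glue (allRange_glue (allRange_glue (allRange_glue (allRange_glue (allRange_glue (allRange_glue (allRange_glue (allRange_glue (allRange_glue (allRange_glue (allRange_glue (allRange_glue (allRange_glue (allRange_glue (allRange_glue (allRange_glue (allRange_glue (allRange_glue (allRange_glue (allRange_glue (allRange_glue (allRange_glue (allRange_glue (allRange_glue (allRange_glue (allRange_glue (allRange_glue (allRange_glue (allRange_glue (allRange_glue (allRange_glue closed1_0 closed1_1) closed1_2) closed1_3) closed1_4) closed1_5) closed1_6) closed1_7) closed1_8) closed1_9) closed1_10) closed1_11) closed1_12) closed1_13) closed1_14) closed1_15) closed1_16) closed1_17) closed1_18) closed1_19) closed1_20) closed1_21) closed1_22) closed1_23) closed1_24) closed1_25) closed1_26) closed1_27) closed1_28) closed1_29) closed1_30) closed1_31) closed1_32) closed1_33) closed1_34) closed1_35) closed1_36) closed1_37) closed1_38) closed1_39) closed1_40) closed1_41) closed1_42)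 closed1_43) closed1_44) closed1_45) closed1_46) closed1_47) closed1_48) closed1_49) closed1_50) closed1_51) closed1_52) closed1_53) closed1_54) closed1_55) closed1_56) closed1_57) closed1_58) closed1_59) closed1_60) closed1_61) closed1_62) closed1_63) closed1_64) closed1_65) closed1_66) closed1_67) closed1_68) closed1_69) closed1_70) closed1_71) closed1_72) closed1_73) closed1_74) closed1_75) closed1_76) closed1_77) closed1_78) closed1_79) closed1_80) closed1_81) closed1_82) closed1_83) closed1_84) closed1_85) closed1_86) closed1_87) closed1_88) closed1_89) closed1_90) closed1_91) closed1_92) closed1_93) closed1_94) closed1_95) closed1_96) closed1_97) closed1_98) closed1_99) closed1_100) closed1_101) closed1_102) closed1_103) closed1_104) closed1_105) closed1_106) closed1_107) closed1_108) closed1_109) closed1_110) closed1_111) closed1_112) closed1_113) closed1_114) closed1_115) closed1_116) closed1_117) closed1_118) closed1_119) closed1_120) closed1_121) closed1_122) closed1_123) closed1_124) closed1_125) closed1_126) closed1_127)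

theorem count1 : bitCount mask1 0 306936 = 275264 :=
  (count_glue (count_glue (count_glue (count_glue (count_glue (count_glue (count_glue (count_glue (count_glue (count_glue (count_glue (count_glue (count_glue (count_glue (count_glue (count_glue (count_glue (count_glue (count_glue (count_glue (count_glue (count_glue (count_glue (count_glue (count_glue (count_glue (count_glue (count_glue (count_glue (count_glue (count_glue (count_glue (count_glue (count_glue (count_glue (count_glue (count_glue (count_glue (count_glue (count_glue (count_glue (count_glue (count_glue (count_glue (count_glue (count_glue (count_glue (count_glue (count_glue (count_glue (count_glue (count_glue (count_glue (count_glue (count_glue (count_glue (count_glue (count_glue (count_glue (count_glue (count_glue (count_glue (count_glue (count_glue (count_glue (count_glue (count_glue (count_glue (count_glue (count_glue (count_glue (count_glue (count_glue (count_glue (count_glue (count_glue (count_glue (count_glue (count_glue (count_glue (count_glue (count_glue (count_glue (count_glue (count_glue (count_glue (count_glue (count_glue (count_glue (count_glue (count_glue (count_glue (count_glue (count_glue (count_glue (count_glue (count_glue (count_glue (count_glue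 (count_glue (count_glue (count_glue (count_glue (count_glue (count_glue (count_glue (count_glue (count_glue (count_glue (count_glue (count_glue (count_glue (count_glue (count_glue (count_glue (count_glue (count_glue (count_glue (count_glue (count_glue (count_glue (count_glue (count_glue (count_glue (count_glue (count_glue (count_glue count1_0 count1_1) count1_2) count1_3) count1_4) count1_5) count1_6) count1_7) count1_8) count1_9) count1_10) count1_11) count1_12) count1_13) count1_14) count1_15) count1_16) count1_17) count1_18) count1_19) count1_20) count1_21) count1_22) count1_23) count1_24) count1_25) count1_26) count1_27) count1_28) count1_29) count1_30) count1_31) count1_32) count1_33) count1_34) count1_35) count1_36) count1_37) count1_38) count1_39) count1_40) count1_41) count1_42) count1_43) count1_44) count1_45) count1_46) count1_47) count1_48) count1_49) count1_50) count1_51) count1_52) count1_53) count1_54) count1_55) count1_56) count1_57) count1_58) count1_59) count1_60) count1_61) count1_62) count1_63) count1_64) count1_65) count1_66) count1_67) count1_68) count1_69) count1_70) count1_71) count1_72) count1_73) count1_74) count1_75) count1_76) count1_77) count1_78) count1_79) count1_80) count1_81) count1_82)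 count1_83) count1_84) count1_85) count1_86) count1_87) count1_88) count1_89) count1_90) count1_91) count1_92) count1_93) count1_94) count1_95) count1_96) count1_97) count1_98) count1_99) count1_100) count1_101) count1_102) count1_103) count1_104) count1_105) count1_106) count1_107) count1_108) count1_109) count1_110) count1_111) count1_112) count1_113) count1_114) count1_115) count1_116) count1_117) count1_118) count1_119) count1_120) count1_121) count1_122) count1_123) count1_124) count1_125) count1_126) count1_127)

theorem self1 : Nat.testBit mask1 1 = true := by decide +kernel

theorem tree2 : otreeOK Tab.data mask2 8 pred2 0 306936 = true :=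
  (allRange_glue (allRange_glue (allRange_glue (allRange_glue (allRange_glue (allRange_glue (allRange_glue (allRange_glue (allRange_glue (allRange_glue (allRange_glue (allRange_glue (allRange_glue (allRange_glue (allRange_glue (allRange_glue (allRange_glue (allRange_glue (allRange_glue (allRange_glue (allRange_glue (allRange_glue (allRange_glue (allRange_glue (allRange_glue (allRange_glue (allRange_glue (allRange_glue (allRange_glue (allRange_glue (allRange_glue (allRange_glue (allRange_glue (allRange_glue (allRange_glue (allRange_glue (allRange_glue (allRange_glue (allRange_glue (allRange_glue (allRange_glue (allRange_glue (allRange_glue (allRange_glue (allRange_glue (allRange_glue (allRange_glue (allRange_glue (allRange_glue (allRange_glue (allRange_glue (allRange_glue (allRange_glue (allRange_glue (allRange_glue (allRange_glue (allRange_glue (allRange_glue (allRange_glue (allRange_glue (allRange_glue (allRange_glue (allRange_glue (allRange_glue (allRange_glue (allRange_glue (allRange_glue (allRange_glue (allRange_glue (allRange_glue (allRange_glue (allRange_glue (allRange_glue (allRange_glue (allRange_glue (allRange_glue (allRange_glue (allRange_glue (allRange_glue (allRange_glue (allRange_glue (allRange_glue (allRange_glue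 (allRange_glue (allRange_glue (allRange_glue (allRange_glue (allRange_glue (allRange_glue (allRange_glue (allRange_glue (allRange_glue (allRange_glue (allRange_glue (allRange_glue (allRange_glue (allRange_glue (allRange_glue (allRange_glue (allRange_glue (allRange_glue (allRange_glue (allRange_glue (allRange_glue (allRange_glue (allRange_glue (allRange_glue (allRange_glue (allRange_glue (allRange_glue (allRange_glue (allRange_glue (allRange_glue (allRange_glue (allRange_glue (allRange_glue (allRange_glue (allRange_glue (allRange_glue (allRange_glue (allRange_glue (allRange_glue (allRange_glue (allRange_glue (allRange_glue (allRange_glue (allRange_glue tree2_0 tree2_1) tree2_2) tree2_3) tree2_4) tree2_5) tree2_6) tree2_7) tree2_8) tree2_9) tree2_10) tree2_11) tree2_12) tree2_13) tree2_14) tree2_15) tree2_16) tree2_17) tree2_18) tree2_19) tree2_20) tree2_21) tree2_22) tree2_23) tree2_24) tree2_25) tree2_26) tree2_27) tree2_28) tree2_29) tree2_30) tree2_31) tree2_32) tree2_33) tree2_34) tree2_35) tree2_36) tree2_37) tree2_38) tree2_39) tree2_40) tree2_41) tree2_42) tree2_43) tree2_44) tree2_45) tree2_46) tree2_47) tree2_48) tree2_49) tree2_50) tree2_51) tree2_52) tree2_53) tree2_54) tree2_55) tree2_56) tree2_57) tree2_58)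 tree2_59) tree2_60) tree2_61) tree2_62) tree2_63) tree2_64) tree2_65) tree2_66) tree2_67) tree2_68) tree2_69) tree2_70) tree2_71) tree2_72) tree2_73) tree2_74) tree2_75) tree2_76) tree2_77) tree2_78) tree2_79) tree2_80) tree2_81) tree2_82) tree2_83) tree2_84) tree2_85) tree2_86) tree2_87) tree2_88) tree2_89) tree2_90) tree2_91) tree2_92) tree2_93) tree2_94) tree2_95) tree2_96) tree2_97) tree2_98) tree2_99) tree2_100) tree2_101) tree2_102) tree2_103) tree2_104) tree2_105) tree2_106) tree2_107) tree2_108) tree2_109) tree2_110) tree2_111) tree2_112) tree2_113) tree2_114) tree2_115) tree2_116) tree2_117) tree2_118) tree2_119) tree2_120) tree2_121) tree2_122) tree2_123) tree2_124) tree2_125) tree2_126) tree2_127)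

theorem closed2 : oclosedOK Tab.data mask2 0 306936 = true :=
  (allRange_glue (allRange_glue (allRange_glue (allRange_glue (allRange_glue (allRange_glue (allRange_glue (allRange_glue (allRange_glue (allRange_glue (allRange_glue (allRange_glue (allRange_glue (allRange_glue (allRange_glue (allRange_glue (allRange_glue (allRange_glue (allRange_glue (allRange_glue (allRange_glue (allRange_glue (allRange_glue (allRange_glue (allRange_glue (allRange_glue (allRange_glue (allRange_glue (allRange_glue (allRange_glue (allRange_glue (allRange_glue (allRange_glue (allRange_glue (allRange_glue (allRange_glue (allRange_glue (allRange_glue (allRange_glue (allRange_glue (allRange_glue (allRange_glue (allRange_glue (allRange_glue (allRange_glue (allRange_glue (allRange_glue (allRange_glue (allRange_glue (allRange_glue (allRange_glue (allRange_glue (allRange_glue (allRange_glue (allRange_glue (allRange_glue (allRange_glue (allRange_glue (allRange_glue (allRange_glue (allRange_glue (allRange_glue (allRange_glue (allRange_glue (allRange_glue (allRange_glue (allRange_glue (allRange_glue (allRange_glue (allRange_glue (allRange_glue (allRange_glue (allRange_glue (allRange_glue (allRange_glue (allRange_glue (allRange_glue (allRange_glue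 (allRange_glue (allRange_glue (allRange_glue (allRange_glue (allRange_glue (allRange_glue (allRange_glue (allRange_glue (allRange_glue (allRange_glue (allRange_glue (allRange_glue (allRange_glue (allRange_glue (allRange_glue (allRange_glue (allRange_glue (allRange_glue (allRange_glue (allRange_glue (allRange_glue (allRange_glue (allRange_glue (allRange_glue (allRange_glue (allRange_glue (allRange_glue (allRange_glue (allRange_glue (allRange_glue (allRange_glue (allRange_glue (allRange_glue (allRange_glue (allRange_glue (allRange_glue (allRange_glue (allRange_glue (allRange_glue (allRange_glue (allRange_glue (allRange_glue (allRange_glue (allRange_glue (allRange_glue (allRange_glue (allRange_glue (allRange_glue (allRange_glue closed2_0 closed2_1) closed2_2) closed2_3) closed2_4) closed2_5) closed2_6) closed2_7) closed2_8) closed2_9) closed2_10) closed2_11) closed2_12) closed2_13) closed2_14) closed2_15) closed2_16) closed2_17) closed2_18) closed2_19) closed2_20) closed2_21) closed2_22) closed2_23) closed2_24) closed2_25) closed2_26) closed2_27) closed2_28) closed2_29) closed2_30) closed2_31) closed2_32) closed2_33) closed2_34) closed2_35) closed2_36) closed2_37) closed2_38) closed2_39) closed2_40) closed2_41) closed2_42)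 closed2_43) closed2_44) closed2_45) closed2_46) closed2_47) closed2_48) closed2_49) closed2_50) closed2_51) closed2_52) closed2_53) closed2_54) closed2_55) closed2_56) closed2_57) closed2_58) closed2_59) closed2_60) closed2_61) closed2_62) closed2_63) closed2_64) closed2_65) closed2_66) closed2_67) closed2_68) closed2_69) closed2_70) closed2_71) closed2_72) closed2_73) closed2_74) closed2_75) closed2_76) closed2_77) closed2_78) closed2_79) closed2_80) closed2_81) closed2_82) closed2_83) closed2_84) closed2_85) closed2_86) closed2_87) closed2_88) closed2_89) closed2_90) closed2_91) closed2_92) closed2_93) closed2_94) closed2_95) closed2_96) closed2_97) closed2_98) closed2_99) closed2_100) closed2_101) closed2_102) closed2_103) closed2_104) closed2_105) closed2_106) closed2_107) closed2_108) closed2_109) closed2_110) closed2_111) closed2_112) closed2_113) closed2_114) closed2_115) closed2_116) closed2_117) closed2_118) closed2_119) closed2_120) closed2_121) closed2_122) closed2_123) closed2_124) closed2_125) closed2_126) closed2_127)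

theorem count2 : bitCount mask2 0 306936 = 31671 :=
  (count_glue (count_glue (count_glue (count_glue (count_glue (count_glue (count_glue (count_glue (count_glue (count_glue (count_glue (count_glue (count_glue (count_glue (count_glue (count_glue (count_glue (count_glue (count_glue (count_glue (count_glue (count_glue (count_glue (count_glue (count_glue (count_glue (count_glue (count_glue (count_glue (count_glue (count_glue (count_glue (count_glue (count_glue (count_glue (count_glue (count_glue (count_glue (count_glue (count_glue (count_glue (count_glue (count_glue (count_glue (count_glue (count_glue (count_glue (count_glue (count_glue (count_glue (count_glue (count_glue (count_glue (count_glue (count_glue (count_glue (count_glue (count_glue (count_glue (count_glue (count_glue (count_glue (count_glue (count_glue (count_glue (count_glue (count_glue (count_glue (count_glue (count_glue (count_glue (count_glue (count_glue (count_glue (count_glue (count_glue (count_glue (count_glue (count_glue (count_glue (count_glue (count_glue (count_glue (count_glue (count_glue (count_glue (count_glue (count_glue (count_glue (count_glue (count_glue (count_glue (count_glue (count_glue (count_glue (count_glue (count_glue (count_glue (count_glue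 (count_glue (count_glue (count_glue (count_glue (count_glue (count_glue (count_glue (count_glue (count_glue (count_glue (count_glue (count_glue (count_glue (count_glue (count_glue (count_glue (count_glue (count_glue (count_glue (count_glue (count_glue (count_glue (count_glue (count_glue (count_glue (count_glue (count_glue (count_glue count2_0 count2_1) count2_2) count2_3) count2_4) count2_5) count2_6) count2_7) count2_8) count2_9) count2_10) count2_11) count2_12) count2_13) count2_14) count2_15) count2_16) count2_17) count2_18) count2_19) count2_20) count2_21) count2_22) count2_23) count2_24) count2_25) count2_26) count2_27) count2_28) count2_29) count2_30) count2_31) count2_32) count2_33) count2_34) count2_35) count2_36) count2_37) count2_38) count2_39) count2_40) count2_41) count2_42) count2_43) count2_44) count2_45) count2_46) count2_47) count2_48) count2_49) count2_50) count2_51) count2_52) count2_53) count2_54) count2_55) count2_56) count2_57) count2_58) count2_59) count2_60) count2_61) count2_62) count2_63) count2_64) count2_65) count2_66) count2_67) count2_68) count2_69) count2_70) count2_71) count2_72) count2_73) count2_74) count2_75) count2_76) count2_77) count2_78) count2_79) count2_80) count2_81) count2_82)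 count2_83) count2_84) count2_85) count2_86) count2_87) count2_88) count2_89) count2_90) count2_91) count2_92) count2_93) count2_94) count2_95) count2_96) count2_97) count2_98) count2_99) count2_100) count2_101) count2_102) count2_103) count2_104) count2_105) count2_106) count2_107) count2_108) count2_109) count2_110) count2_111) count2_112) count2_113) count2_114) count2_115) count2_116) count2_117) count2_118) count2_119) count2_120) count2_121) count2_122) count2_123) count2_124) count2_125) count2_126) count2_127)

theorem self2 : Nat.testBit mask2 8 = true := by decide +kernel

end

end H47.Fi24.Orb
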