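import Cfsg.Agent.H47.Fi24.Tab.PE0
import Cfsg.Agent.H47.Fi24.Tab.PE1
import Cfsg.Agent.H47.Fi24.Tab.PE2
import Cfsg.Agent.H47.Fi24.Tab.PE3
import Cfsg.Agent.H47.Fi24.Tab.PE4
import Cfsg.Agent.H47.Fi24.Tab.PE5
import Cfsg.Agent.H47.Fi24.Tab.PE6
import Cfsg.Agent.H47.Fi24.Tab.PE7
import Cfsg.Agent.H47.Fi24.Tab.PE8
import Cfsg.Agent.H47.Fi24.Tab.PE9
import Cfsg.Agent.H47.Fi24.Tab.PE10
import Cfsg.Agent.H47.Fi24.Tab.PE11
import Cfsg.Agent.H47.Fi24.Tab.PE12
import Cfsg.Agent.H47.Fi24.Tab.PE13
import Cfsg.Agent.H47.Fi24.Tab.PE14
import Cfsg.Agent.H47.Fi24.Tab.PE15
import Cfsg.Agent.H47.Fi24.Tab.PE16
import Cfsg.Agent.H47.Fi24.Tab.PE17
import Cfsg.Agent.H47.Fi24.Tab.PE18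
import Cfsg.Agent.H47.Fi24.Tab.PE19
import Cfsg.Agent.H47.Fi24.Tab.PE20
import Cfsg.Agent.H47.Fi24.Tab.PE21
import Cfsg.Agent.H47.Fi24.Tab.PE22
import Cfsg.Agent.H47.Fi24.Tab.PE23
import Cfsg.Agent.H47.Fi24.Tab.PE24
import Cfsg.Agent.H47.Fi24.Tab.PE25
import Cfsg.Agent.H47.Fi24.Tab.PE26
import Cfsg.Agent.H47.Fi24.Tab.PE27
import Cfsg.Agent.H47.Fi24.Tab.PE28
import Cfsg.Agent.H47.Fi24.Tab.PE29
import Cfsg.Agent.H47.Fi24.Tab.PE30
import Cfsg.Agent.H47.Fi24.Tab.PE31
import Cfsg.Agent.H47.Fi24.Tab.PT

/-!
Assembled checks of the table of the presented Fi24 (generated).
-/

set_option autoImplicit false
set_option maxRecDepth 100000
set_option linter.all false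
set_option Elab.async false

namespace H47.Fi24.Tab

open H93.Coset

attribute [local irreducible] allRange Big.nodeBig

theorem nodes : allRange 0 306936 (Big.nodeBig data raChunk rbChunk wsel 91) = true :=
  (allRange_glue (allRange_glue (allRange_glue (allRange_glue (allRange_glue (allRange_glue (allRange_glue (allRange_glue (allRange_glue (allRange_glue (allRange_glue (allRange_glue (allRange_glue (allRange_glue (allRange_glue (allRange_glue (allRange_glue (allRange_glue (allRange_glue (allRange_glue (allRange_glue (allRange_glue (allRange_glue (allRange_glue (allRange_glue (allRange_glue (allRange_glue (allRange_glue (allRange_glue (allRange_glue (allRange_glue (allRange_glue (allRange_glue (allRange_glue (allRange_glue (allRange_glue (allRange_glue (allRange_glue (allRange_glue (allRange_glue (allRange_glue (allRange_glue (allRange_glue (allRange_glue (allRange_glue (allRange_glue (allRange_glue (allRange_glue (allRange_glue (allRange_glue (allRange_glue (allRange_glue (allRange_glue (allRange_glue (allRange_glue (allRange_glue (allRange_glue (allRange_glue (allRange_glue (allRange_glue (allRange_glue (allRange_glue (allRange_glue (allRange_glue (allRange_glue (allRange_glue (allRange_glue (allRange_glue (allRange_glue (allRange_glue (allRange_glue (allRange_glue (allRange_glue (allRange_glue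 (allRange_glue (allRange_glue (allRange_glue (allRange_glue (allRange_glue (allRange_glue (allRange_glue (allRange_glue (allRange_glue (allRange_glue (allRange_glue (allRange_glue (allRange_glue (allRange_glue (allRange_glue (allRange_glue (allRange_glue (allRange_glue (allRange_glue (allRange_glue (allRange_glue (allRange_glue (allRange_glue (allRange_glue (allRange_glue (allRange_glue (allRange_glue (allRange_glue (allRange_glue (allRange_glue (allRange_glue (allRange_glue (allRange_glue (allRange_glue (allRange_glue (allRange_glue (allRange_glue (allRange_glue (allRange_glue (allRange_glue (allRange_glue (allRange_glue (allRange_glue (allRange_glue (allRange_glue (allRange_glue (allRange_glue (allRange_glue (allRange_glue (allRange_glue (allRange_glue (allRange_glue (allRange_glue (allRange_glue (allRange_glue (allRange_glue (allRange_glue (allRange_glue (allRange_glue (allRange_glue (allRange_glue (allRange_glue (allRange_glue (allRange_glue (allRange_glue (allRange_glue (allRange_glue (allRange_glue (allRange_glue (allRange_glue (allRange_glue (allRange_glue (allRange_glue (allRange_glue (allRange_glue (allRange_glue (allRange_glue (allRange_glue (allRange_glue (allRange_glue (allRange_glue (allRange_glue (allRange_glue (allRange_glue (allRange_glue (allRange_glue (allRange_glue (allRange_glue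 (allRange_glue (allRange_glue (allRange_glue (allRange_glue (allRange_glue (allRange_glue (allRange_glue (allRange_glue (allRange_glue (allRange_glue (allRange_glue (allRange_glue (allRange_glue (allRange_glue (allRange_glue (allRange_glue (allRange_glue (allRange_glue (allRange_glue (allRange_glue (allRange_glue (allRange_glue (allRange_glue (allRange_glue (allRange_glue (allRange_glue (allRange_glue (allRange_glue (allRange_glue (allRange_glue (allRange_glue (allRange_glue (allRange_glue (allRange_glue (allRange_glue (allRange_glue (allRange_glue (allRange_glue (allRange_glue (allRange_glue (allRange_glue (allRange_glue (allRange_glue (allRange_glue (allRange_glue (allRange_glue (allRange_glue (allRange_glue (allRange_glue (allRange_glue (allRange_glue (allRange_glue (allRange_glue (allRange_glue (allRange_glue (allRange_glue (allRange_glue (allRange_glue (allRange_glue (allRange_glue (allRange_glue (allRange_glue (allRange_glue (allRange_glue (allRange_glue (allRange_glue (allRange_glue (allRange_glue (allRange_glue (allRange_glue (allRange_glue (allRange_glue (allRange_glue (allRange_glue (allRange_glue (allRange_glue (allRange_glue (allRange_glue (allRange_glue (allRange_glue (allRange_glue (allRange_glue (allRange_glue (allRange_glue (allRange_glue (allRange_glue (allRange_glue (allRange_glue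 (allRange_glue (allRange_glue (allRange_glue (allRange_glue (allRange_glue (allRange_glue (allRange_glue (allRange_glue (allRange_glue (allRange_glue (allRange_glue (allRange_glue (allRange_glue (allRange_glue (allRange_glue (allRange_glue (allRange_glue (allRange_glue (allRange_glue (allRange_glue (allRange_glue (allRange_glue (allRange_glue (allRange_glue (allRange_glue (allRange_glue (allRange_glue (allRange_glue (allRange_glue (allRange_glue (allRange_glue (allRange_glue (allRange_glue (allRange_glue (allRange_glue (allRange_glue (allRange_glue (allRange_glue (allRange_glue (allRange_glue (allRange_glue (allRange_glue (allRange_glue (allRange_glue (allRange_glue (allRange_glue (allRange_glue (allRange_glue (allRange_glue (allRange_glue (allRange_glue (allRange_glue (allRange_glue (allRange_glue (allRange_glue (allRange_glue (allRange_glue (allRange_glue (allRange_glue (allRange_glue (allRange_glue (allRange_glue (allRange_glue (allRange_glue (allRange_glue (allRange_glue (allRange_glue (allRange_glue (allRange_glue (allRange_glue (allRange_glue (allRange_glue (allRange_glue (allRange_glue (allRange_glue (allRange_glue (allRange_glue (allRange_glue (allRange_glue (allRange_glue (allRange_glue (allRange_glue (allRange_glue (allRange_glue (allRange_glue (allRange_glue (allRange_glue (allRange_glue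 (allRange_glue (allRange_glue (allRange_glue (allRange_glue (allRange_glue (allRange_glue (allRange_glue (allRange_glue (allRange_glue (allRange_glue (allRange_glue (allRange_glue (allRange_glue (allRange_glue (allRange_glue (allRange_glue (allRange_glue (allRange_glue (allRange_glue (allRange_glue (allRange_glue (allRange_glue (allRange_glue (allRange_glue (allRange_glue (allRange_glue (allRange_glue (allRange_glue (allRange_glue (allRange_glue (allRange_glue (allRange_glue (allRange_glue (allRange_glue (allRange_glue (allRange_glue (allRange_glue (allRange_glue (allRange_glue (allRange_glue (allRange_glue (allRange_glue (allRange_glue (allRange_glue (allRange_glue (allRange_glue (allRange_glue (allRange_glue (allRange_glue (allRange_glue (allRange_glue (allRange_glue (allRange_glue (allRange_glue (allRange_glue (allRange_glue (allRange_glue (allRange_glue (allRange_glue (allRange_glue (allRange_glue (allRange_glue (allRange_glue (allRange_glue (allRange_glue (allRange_glue (allRange_glue (allRange_glue (allRange_glue (allRange_glue (allRange_glue (allRange_glue (allRange_glue (allRange_glue (allRange_glue (allRange_glue (allRange_glue (allRange_glue (allRange_glue (allRange_glue (allRange_glue (allRange_glue (allRange_glue (allRange_glue (allRange_glue (allRange_glue (allRange_glue (allRange_glue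 (allRange_glue (allRange_glue (allRange_glue (allRange_glue (allRange_glue (allRange_glue (allRange_glue (allRange_glue (allRange_glue (allRange_glue (allRange_glue (allRange_glue (allRange_glue (allRange_glue (allRange_glue (allRange_glue (allRange_glue (allRange_glue (allRange_glue (allRange_glue (allRange_glue (allRange_glue (allRange_glue (allRange_glue (allRange_glue (allRange_glue (allRange_glue (allRange_glue (allRange_glue (allRange_glue (allRange_glue (allRange_glue (allRange_glue (allRange_glue (allRange_glue (allRange_glue (allRange_glue (allRange_glue (allRange_glue (allRange_glue (allRange_glue (allRange_glue (allRange_glue (allRange_glue (allRange_glue (allRange_glue (allRange_glue (allRange_glue (allRange_glue (allRange_glue (allRange_glue (allRange_glue (allRange_glue (allRange_glue (allRange_glue (allRange_glue (allRange_glue (allRange_glue (allRange_glue (allRange_glue (allRange_glue (allRange_glue (allRange_glue (allRange_glue (allRange_glue (allRange_glue (allRange_glue (allRange_glue (allRange_glue (allRange_glue (allRange_glue (allRange_glue (allRange_glue (allRange_glue (allRange_glue (allRange_glue (allRange_glue (allRange_glue (allRange_glue (allRange_glue (allRange_glue (allRange_glue (allRange_glue (allRange_glue (allRange_glue node0 node1) node2) node3) node4) node5) node6)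 node7) node8) node9) node10) node11) node12) node13) node14) node15) node16) node17) node18) node19) node20) node21) node22) node23) node24) node25) node26) node27) node28) node29) node30) node31) node32) node33) node34) node35) node36) node37) node38) node39) node40) node41) node42) node43) node44) node45) node46) node47) node48) node49) node50) node51) node52) node53) node54) node55) node56) node57) node58) node59) node60) node61) node62) node63) node64) node65) node66) node67) node68) node69) node70) node71) node72) node73) node74) node75) node76) node77) node78) node79) node80) node81) node82) node83) node84) node85) node86) node87) node88) node89) node90) node91) node92) node93) node94) node95) node96) node97) node98) node99) node100) node101) node102) node103) node104) node105) node106) node107) node108) node109) node110) node111) node112) node113) node114) node115) node116) node117) node118) node119) node120) node121) node122) node123) node124) node125) node126) node127) node128) node129) node130) node131) node132) node133) node134) node135) node136) node137) node138) node139) node140) node141) node142) node143) node144) node145) node146) node147) node148) node149) node150) node151) node152) node153) node154) node155) node156) node157) node158) node159) node160) node161) node162) node163) node164)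 node165) node166) node167) node168) node169) node170) node171) node172) node173) node174) node175) node176) node177) node178) node179) node180) node181) node182) node183) node184) node185) node186) node187) node188) node189) node190) node191) node192) node193) node194) node195) node196) node197) node198) node199) node200) node201) node202) node203) node204) node205) node206) node207) node208) node209) node210) node211) node212) node213) node214) node215) node216) node217) node218) node219) node220) node221) node222) node223) node224) node225) node226) node227) node228) node229) node230) node231) node232) node233) node234) node235) node236) node237) node238) node239) node240) node241) node242) node243) node244) node245) node246) node247) node248) node249) node250) node251) node252) node253) node254) node255) node256) node257) node258) node259) node260) node261) node262) node263) node264) node265) node266) node267) node268) node269) node270) node271) node272) node273) node274) node275) node276) node277) node278) node279) node280) node281) node282) node283) node284) node285) node286) node287) node288) node289) node290) node291) node292) node293) node294) node295) node296) node297) node298) node299) node300) node301) node302) node303) node304) node305) node306) node307) node308) node309) node310) node311)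 node312) node313) node314) node315) node316) node317) node318) node319) node320) node321) node322) node323) node324) node325) node326) node327) node328) node329) node330) node331) node332) node333) node334) node335) node336) node337) node338) node339) node340) node341) node342) node343) node344) node345) node346) node347) node348) node349) node350) node351) node352) node353) node354) node355) node356) node357) node358) node359) node360) node361) node362) node363) node364) node365) node366) node367) node368) node369) node370) node371) node372) node373) node374) node375) node376) node377) node378) node379) node380) node381) node382) node383) node384) node385) node386) node387) node388) node389) node390) node391) node392) node393) node394) node395) node396) node397) node398) node399) node400) node401) node402) node403) node404) node405) node406) node407) node408) node409) node410) node411) node412) node413) node414) node415) node416) node417) node418) node419) node420) node421) node422) node423) node424) node425) node426) node427) node428) node429) node430) node431) node432) node433) node434) node435) node436) node437) node438) node439) node440) node441) node442) node443) node444) node445) node446) node447) node448) node449) node450) node451) node452) node453) node454) node455) node456) node457) node458)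 node459) node460) node461) node462) node463) node464) node465) node466) node467) node468) node469) node470) node471) node472) node473) node474) node475) node476) node477) node478) node479) node480) node481) node482) node483) node484) node485) node486) node487) node488) node489) node490) node491) node492) node493) node494) node495) node496) node497) node498) node499) node500) node501) node502) node503) node504) node505) node506) node507) node508) node509) node510) node511)

theorem tree_all : treeOK data 0 306936 = true :=
  (allRange_glue (allRange_glue (allRange_glue (allRange_glue (allRange_glue (allRange_glue (allRange_glue (allRange_glue (allRange_glue (allRange_glue (allRange_glue (allRange_glue (allRange_glue (allRange_glue (allRange_glue (allRange_glue (allRange_glue (allRange_glue (allRange_glue (allRange_glue (allRange_glue (allRange_glue (allRange_glue (allRange_glue (allRange_glue (allRange_glue (allRange_glue (allRange_glue (allRange_glue (allRange_glue (allRange_glue (allRange_glue (allRange_glue (allRange_glue (allRange_glue (allRange_glue (allRange_glue (allRange_glue (allRange_glue (allRange_glue (allRange_glue (allRange_glue (allRange_glue (allRange_glue (allRange_glue (allRange_glue (allRange_glue (allRange_glue treeRow0 treeRow1) treeRow2) treeRow3) treeRow4) treeRow5) treeRow6)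 treeRow7) treeRow8) treeRow9) treeRow10) treeRow11) treeRow12) treeRow13) treeRow14) treeRow15) treeRow16) treeRow17) treeRow18) treeRow19) treeRow20) treeRow21) treeRow22) treeRow23) treeRow24) treeRow25) treeRow26) treeRow27) treeRow28) treeRow29) treeRow30) treeRow31) treeRow32) treeRow33) treeRow34) treeRow35) treeRow36) treeRow37) treeRow38) treeRow39) treeRow40) treeRow41) treeRow42) treeRow43) treeRow44) treeRow45) treeRow46) treeRow47) treeRow48)

theorem words_sel : ∀ r < 91, words[r]? = some (wsel r) := by decide +kernel

theorem words_letters : ∀ w ∈ words, ∀ g ∈ w, g < 12 := by decide +kernel

theorem tables : Tables data where
  pos := by decide +kernel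
  edges := Big.edges_of_big words_sel words_letters nodes
  tree := tree_all
  letters := by decide +kernel
  subfix := by decide +kernel

end H47.Fi24.Tab
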