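import Cfsg.Agent.H47.Fi24.Tab.PR0
import Cfsg.Agent.H47.Fi24.Tab.PR1
import Cfsg.Agent.H47.Fi24.Tab.PR2
import Cfsg.Agent.H47.Fi24.Tab.PR3
import Cfsg.Agent.H47.Fi24.Tab.PR4
import Cfsg.Agent.H47.Fi24.Tab.PR5
import Cfsg.Agent.H47.Fi24.Tab.PR6
import Cfsg.Agent.H47.Fi24.Tab.PR7
import Cfsg.Agent.H47.Fi24.Tab.PR8
import Cfsg.Agent.H47.Fi24.Tab.PR9
import Cfsg.Agent.H47.Fi24.Tab.PR10
import Cfsg.Agent.H47.Fi24.Tab.PR11
import Cfsg.Agent.H47.Fi24.Tab.PR12
import Cfsg.Agent.H47.Fi24.Tab.PR13
import Cfsg.Agent.H47.Fi24.Tab.PR14
import Cfsg.Agent.H47.Fi24.Tab.PR15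
import Cfsg.Agent.H47.Fi24.Tab.PR16
import Cfsg.Agent.H47.Fi24.Tab.PR17
import Cfsg.Agent.H47.Fi24.Tab.PR18
import Cfsg.Agent.H47.Fi24.Tab.PR19
import Cfsg.Agent.H47.Fi24.Tab.PR20
import Cfsg.Agent.H47.Fi24.Tab.PR21
import Cfsg.Agent.H47.Fi24.Tab.PR22
import Cfsg.Agent.H47.Fi24.Tab.PR23
import Cfsg.Agent.H47.Fi24.Tab.PR24
import Cfsg.Agent.H47.Fi24.Tab.PR25
import Cfsg.Agent.H47.Fi24.Tab.PR26
import Cfsg.Agent.H47.Fi24.Tab.PR27
import Cfsg.Agent.H47.Fi24.Tab.PR28
import Cfsg.Agent.H47.Fi24.Tab.PR29
import Cfsg.Agent.H47.Fi24.Tab.PR30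
import Cfsg.Agent.H47.Fi24.Tab.PR31
import Cfsg.Agent.H47.Fi24.Tables

/-!
The relators act trivially (generated).
-/

set_option autoImplicit false
set_option maxRecDepth 100000
set_option linter.all false
set_option Elab.async false

namespace H47.Fi24.Tab

open H93.Coset

section

attribute [local irreducible] allRange nodeRel

theorem rel_all : allRange 0 306936 nodeRel = true :=
  (allRange_glue (allRange_glue (allRange_glue (allRange_glue (allRange_glue (allRange_glue (allRange_glue (allRange_glue (allRange_glue (allRange_glue (allRange_glue (allRange_glue (allRange_glue (allRange_glue (allRange_glue (allRange_glue (allRange_glue (allRange_glue (allRange_glue (allRange_glue (allRange_glue (allRange_glue (allRange_glue (allRange_glue (allRange_glue (allRange_glue (allRange_glue (allRange_glue (allRange_glue (allRange_glue (allRange_glue (allRange_glue (allRange_glue (allRange_glue (allRange_glue (allRange_glue (allRange_glue (allRange_glue (allRange_glue (allRange_glue (allRange_glue (allRange_glue (allRange_glue (allRange_glue (allRange_glue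 (allRange_glue (allRange_glue (allRange_glue (allRange_glue (allRange_glue (allRange_glue (allRange_glue (allRange_glue (allRange_glue (allRange_glue (allRange_glue (allRange_glue (allRange_glue (allRange_glue (allRange_glue (allRange_glue (allRange_glue (allRange_glue (allRange_glue (allRange_glue (allRange_glue (allRange_glue (allRange_glue (allRange_glue (allRange_glue (allRange_glue (allRange_glue (allRange_glue (allRange_glue (allRange_glue (allRange_glue (allRange_glue (allRange_glue (allRange_glue (allRange_glue (allRange_glue (allRange_glue (allRange_glue (allRange_glue (allRange_glue (allRange_glue (allRange_glue (allRange_glue (allRange_glue (allRange_glue (allRange_glue (allRange_glue (allRange_glue (allRange_glue (allRange_glue (allRange_glue (allRange_glue (allRange_glue (allRange_glue (allRange_glue (allRange_glue (allRange_glue (allRange_glue (allRange_glue (allRange_glue (allRange_glue (allRange_glue (allRange_glue (allRange_glue (allRange_glue (allRange_glue (allRange_glue (allRange_glue (allRange_glue (allRange_glue (allRange_glue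 (allRange_glue (allRange_glue (allRange_glue (allRange_glue (allRange_glue (allRange_glue (allRange_glue (allRange_glue (allRange_glue (allRange_glue (allRange_glue (allRange_glue (allRange_glue (allRange_glue (allRange_glue (allRange_glue (allRange_glue (allRange_glue (allRange_glue (allRange_glue (allRange_glue (allRange_glue (allRange_glue (allRange_glue (allRange_glue (allRange_glue (allRange_glue (allRange_glue (allRange_glue (allRange_glue (allRange_glue (allRange_glue (allRange_glue (allRange_glue (allRange_glue (allRange_glue (allRange_glue (allRange_glue (allRange_glue (allRange_glue (allRange_glue (allRange_glue (allRange_glue (allRange_glue (allRange_glue (allRange_glue (allRange_glue (allRange_glue (allRange_glue (allRange_glue (allRange_glue (allRange_glue (allRange_glue (allRange_glue (allRange_glue (allRange_glue (allRange_glue (allRange_glue (allRange_glue (allRange_glue (allRange_glue (allRange_glue (allRange_glue (allRange_glue (allRange_glue (allRange_glue (allRange_glue (allRange_glue (allRange_glue (allRange_glue (allRange_glue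 (allRange_glue (allRange_glue (allRange_glue (allRange_glue (allRange_glue (allRange_glue (allRange_glue (allRange_glue (allRange_glue (allRange_glue (allRange_glue (allRange_glue (allRange_glue (allRange_glue (allRange_glue (allRange_glue (allRange_glue (allRange_glue (allRange_glue (allRange_glue (allRange_glue (allRange_glue (allRange_glue (allRange_glue (allRange_glue (allRange_glue (allRange_glue (allRange_glue (allRange_glue (allRange_glue (allRange_glue (allRange_glue (allRange_glue (allRange_glue (allRange_glue (allRange_glue (allRange_glue (allRange_glue (allRange_glue (allRange_glue (allRange_glue (allRange_glue (allRange_glue (allRange_glue (allRange_glue (allRange_glue (allRange_glue (allRange_glue (allRange_glue (allRange_glue (allRange_glue (allRange_glue (allRange_glue (allRange_glue (allRange_glue (allRange_glue (allRange_glue (allRange_glue (allRange_glue (allRange_glue (allRange_glue (allRange_glue (allRange_glue (allRange_glue (allRange_glue (allRange_glue (allRange_glue (allRange_glue (allRange_glue (allRange_glue (allRange_glue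 (allRange_glue (allRange_glue (allRange_glue (allRange_glue (allRange_glue (allRange_glue (allRange_glue (allRange_glue (allRange_glue (allRange_glue (allRange_glue (allRange_glue (allRange_glue (allRange_glue (allRange_glue (allRange_glue (allRange_glue (allRange_glue (allRange_glue (allRange_glue (allRange_glue (allRange_glue (allRange_glue (allRange_glue (allRange_glue (allRange_glue (allRange_glue (allRange_glue (allRange_glue (allRange_glue (allRange_glue (allRange_glue (allRange_glue (allRange_glue (allRange_glue (allRange_glue (allRange_glue (allRange_glue (allRange_glue (allRange_glue (allRange_glue (allRange_glue (allRange_glue (allRange_glue (allRange_glue (allRange_glue (allRange_glue (allRange_glue (allRange_glue (allRange_glue (allRange_glue (allRange_glue (allRange_glue (allRange_glue (allRange_glue (allRange_glue (allRange_glue (allRange_glue (allRange_glue (allRange_glue (allRange_glue (allRange_glue (allRange_glue (allRange_glue (allRange_glue (allRange_glue (allRange_glue (allRange_glue (allRange_glue (allRange_glue (allRange_glue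 (allRange_glue (allRange_glue (allRange_glue (allRange_glue (allRange_glue (allRange_glue (allRange_glue (allRange_glue (allRange_glue (allRange_glue (allRange_glue (allRange_glue (allRange_glue (allRange_glue (allRange_glue (allRange_glue (allRange_glue (allRange_glue (allRange_glue (allRange_glue (allRange_glue (allRange_glue (allRange_glue (allRange_glue (allRange_glue (allRange_glue (allRange_glue (allRange_glue (allRange_glue (allRange_glue (allRange_glue (allRange_glue (allRange_glue (allRange_glue (allRange_glue (allRange_glue (allRange_glue (allRange_glue (allRange_glue (allRange_glue (allRange_glue (allRange_glue (allRange_glue (allRange_glue (allRange_glue (allRange_glue (allRange_glue (allRange_glue (allRange_glue (allRange_glue (allRange_glue (allRange_glue (allRange_glue (allRange_glue (allRange_glue (allRange_glue (allRange_glue (allRange_glue (allRange_glue (allRange_glue (allRange_glue (allRange_glue (allRange_glue (allRange_glue (allRange_glue (allRange_glue (allRange_glue (allRange_glue (allRange_glue (allRange_glue (allRange_glue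 (allRange_glue (allRange_glue (allRange_glue (allRange_glue (allRange_glue (allRange_glue (allRange_glue (allRange_glue (allRange_glue (allRange_glue (allRange_glue (allRange_glue (allRange_glue (allRange_glue (allRange_glue (allRange_glue (allRange_glue (allRange_glue (allRange_glue (allRange_glue (allRange_glue (allRange_glue (allRange_glue (allRange_glue (allRange_glue (allRange_glue (allRange_glue (allRange_glue (allRange_glue (allRange_glue (allRange_glue (allRange_glue (allRange_glue (allRange_glue (allRange_glue (allRange_glue (allRange_glue (allRange_glue (allRange_glue (allRange_glue (allRange_glue (allRange_glue (allRange_glue (allRange_glue (allRange_glue (allRange_glue (allRange_glue (allRange_glue (allRange_glue (allRange_glue (allRange_glue (allRange_glue (allRange_glue (allRange_glue (allRange_glue (allRange_glue (allRange_glue (allRange_glue (allRange_glue (allRange_glue (allRange_glue (allRange_glue (allRange_glue (allRange_glue (allRange_glue (allRange_glue (allRange_glue (allRange_glue (allRange_glue (allRange_glue (allRange_glue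 (allRange_glue (allRange_glue (allRange_glue (allRange_glue (allRange_glue (allRange_glue (allRange_glue (allRange_glue (allRange_glue (allRange_glue (allRange_glue (allRange_glue (allRange_glue (allRange_glue (allRange_glue (allRange_glue (allRange_glue (allRange_glue (allRange_glue (allRange_glue (allRange_glue (allRange_glue (allRange_glue (allRange_glue (allRange_glue (allRange_glue (allRange_glue (allRange_glue (allRange_glue (allRange_glue (allRange_glue (allRange_glue (allRange_glue (allRange_glue (allRange_glue (allRange_glue (allRange_glue (allRange_glue (allRange_glue (allRange_glue rel0 rel1) rel2) rel3) rel4) rel5) rel6) rel7) rel8) rel9) rel10) rel11) rel12) rel13) rel14) rel15) rel16) rel17) rel18) rel19) rel20) rel21) rel22) rel23) rel24) rel25) rel26) rel27) rel28) rel29) rel30) rel31) rel32) rel33) rel34) rel35) rel36) rel37) rel38) rel39) rel40) rel41) rel42) rel43) rel44) rel45) rel46) rel47) rel48) rel49) rel50) rel51) rel52) rel53) rel54) rel55) rel56) rel57) rel58) rel59) rel60) rel61) rel62) rel63) rel64) rel65) rel66) rel67)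 rel68) rel69) rel70) rel71) rel72) rel73) rel74) rel75) rel76) rel77) rel78) rel79) rel80) rel81) rel82) rel83) rel84) rel85) rel86) rel87) rel88) rel89) rel90) rel91) rel92) rel93) rel94) rel95) rel96) rel97) rel98) rel99) rel100) rel101) rel102) rel103) rel104) rel105) rel106) rel107) rel108) rel109) rel110) rel111) rel112) rel113) rel114) rel115) rel116) rel117) rel118) rel119) rel120) rel121) rel122) rel123) rel124) rel125) rel126) rel127) rel128) rel129) rel130) rel131) rel132) rel133) rel134) rel135) rel136) rel137) rel138) rel139) rel140) rel141) rel142) rel143) rel144) rel145) rel146) rel147) rel148) rel149) rel150) rel151) rel152) rel153) rel154) rel155) rel156) rel157) rel158) rel159) rel160) rel161) rel162) rel163) rel164) rel165) rel166) rel167) rel168) rel169) rel170) rel171) rel172) rel173) rel174) rel175) rel176) rel177) rel178) rel179) rel180) rel181) rel182) rel183) rel184) rel185) rel186) rel187) rel188) rel189) rel190) rel191) rel192) rel193) rel194) rel195) rel196) rel197) rel198) rel199) rel200) rel201) rel202) rel203) rel204)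 rel205) rel206) rel207) rel208) rel209) rel210) rel211) rel212) rel213) rel214) rel215) rel216) rel217) rel218) rel219) rel220) rel221) rel222) rel223) rel224) rel225) rel226) rel227) rel228) rel229) rel230) rel231) rel232) rel233) rel234) rel235) rel236) rel237) rel238) rel239) rel240) rel241) rel242) rel243) rel244) rel245) rel246) rel247) rel248) rel249) rel250) rel251) rel252) rel253) rel254) rel255) rel256) rel257) rel258) rel259) rel260) rel261) rel262) rel263) rel264) rel265) rel266) rel267) rel268) rel269) rel270) rel271) rel272) rel273) rel274) rel275) rel276) rel277) rel278) rel279) rel280) rel281) rel282) rel283) rel284) rel285) rel286) rel287) rel288) rel289) rel290) rel291) rel292) rel293) rel294) rel295) rel296) rel297) rel298) rel299) rel300) rel301) rel302) rel303) rel304) rel305) rel306) rel307) rel308) rel309) rel310) rel311) rel312) rel313) rel314) rel315) rel316) rel317) rel318) rel319) rel320) rel321) rel322) rel323) rel324) rel325) rel326) rel327) rel328) rel329) rel330) rel331) rel332) rel333) rel334) rel335) rel336) rel337)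 rel338) rel339) rel340) rel341) rel342) rel343) rel344) rel345) rel346) rel347) rel348) rel349) rel350) rel351) rel352) rel353) rel354) rel355) rel356) rel357) rel358) rel359) rel360) rel361) rel362) rel363) rel364) rel365) rel366) rel367) rel368) rel369) rel370) rel371) rel372) rel373) rel374) rel375) rel376) rel377) rel378) rel379) rel380) rel381) rel382) rel383) rel384) rel385) rel386) rel387) rel388) rel389) rel390) rel391) rel392) rel393) rel394) rel395) rel396) rel397) rel398) rel399) rel400) rel401) rel402) rel403) rel404) rel405) rel406) rel407) rel408) rel409) rel410) rel411) rel412) rel413) rel414) rel415) rel416) rel417) rel418) rel419) rel420) rel421) rel422) rel423) rel424) rel425) rel426) rel427) rel428) rel429) rel430) rel431) rel432) rel433) rel434) rel435) rel436) rel437) rel438) rel439) rel440) rel441) rel442) rel443) rel444) rel445) rel446) rel447) rel448) rel449) rel450) rel451) rel452) rel453) rel454) rel455) rel456) rel457) rel458) rel459) rel460) rel461) rel462) rel463) rel464) rel465) rel466) rel467) rel468) rel469) rel470)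 rel471) rel472) rel473) rel474) rel475) rel476) rel477) rel478) rel479) rel480) rel481) rel482) rel483) rel484) rel485) rel486) rel487) rel488) rel489) rel490) rel491) rel492) rel493) rel494) rel495) rel496) rel497) rel498) rel499) rel500) rel501) rel502) rel503) rel504) rel505) rel506) rel507) rel508) rel509) rel510) rel511)

theorem pz_all : data.powOK [6,4,1,9,7,3,2,1,10,11,8,5,0,1] 17 pwZ 0 306936 = true :=
  (allRange_glue (allRange_glue (allRange_glue (allRange_glue (allRange_glue (allRange_glue (allRange_glue (allRange_glue (allRange_glue (allRange_glue (allRange_glue (allRange_glue (allRange_glue (allRange_glue (allRange_glue (allRange_glue (allRange_glue (allRange_glue (allRange_glue (allRange_glue (allRange_glue (allRange_glue (allRange_glue (allRange_glue (allRange_glue (allRange_glue (allRange_glue (allRange_glue (allRange_glue (allRange_glue (allRange_glue (allRange_glue (allRange_glue (allRange_glue (allRange_glue (allRange_glue (allRange_glue (allRange_glue (allRange_glue (allRange_glue (allRange_glue (allRange_glue (allRange_glue (allRange_glue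 (allRange_glue (allRange_glue (allRange_glue (allRange_glue (allRange_glue (allRange_glue (allRange_glue (allRange_glue (allRange_glue (allRange_glue (allRange_glue (allRange_glue (allRange_glue (allRange_glue (allRange_glue (allRange_glue (allRange_glue (allRange_glue (allRange_glue (allRange_glue (allRange_glue (allRange_glue (allRange_glue (allRange_glue (allRange_glue (allRange_glue (allRange_glue (allRange_glue (allRange_glue (allRange_glue (allRange_glue (allRange_glue (allRange_glue (allRange_glue (allRange_glue (allRange_glue (allRange_glue (allRange_glue (allRange_glue (allRange_glue (allRange_glue (allRange_glue (allRange_glue (allRange_glue (allRange_glue (allRange_glue (allRange_glue (allRange_glue (allRange_glue (allRange_glue (allRange_glue (allRange_glue (allRange_glue (allRange_glue (allRange_glue (allRange_glue (allRange_glue (allRange_glue (allRange_glue (allRange_glue (allRange_glue (allRange_glue (allRange_glue (allRange_glue (allRange_glue (allRange_glue (allRange_glue (allRange_glue (allRange_glue (allRange_glue (allRange_glue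 (allRange_glue (allRange_glue (allRange_glue (allRange_glue (allRange_glue (allRange_glue (allRange_glue (allRange_glue (allRange_glue (allRange_glue (allRange_glue (allRange_glue (allRange_glue (allRange_glue (allRange_glue (allRange_glue (allRange_glue (allRange_glue (allRange_glue (allRange_glue (allRange_glue (allRange_glue (allRange_glue (allRange_glue (allRange_glue (allRange_glue (allRange_glue (allRange_glue (allRange_glue (allRange_glue (allRange_glue (allRange_glue (allRange_glue (allRange_glue (allRange_glue (allRange_glue (allRange_glue (allRange_glue (allRange_glue (allRange_glue (allRange_glue (allRange_glue (allRange_glue (allRange_glue (allRange_glue (allRange_glue (allRange_glue (allRange_glue (allRange_glue (allRange_glue (allRange_glue (allRange_glue (allRange_glue (allRange_glue (allRange_glue (allRange_glue (allRange_glue (allRange_glue (allRange_glue (allRange_glue (allRange_glue (allRange_glue (allRange_glue (allRange_glue (allRange_glue (allRange_glue (allRange_glue (allRange_glue (allRange_glue (allRange_glue (allRange_glue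 (allRange_glue (allRange_glue (allRange_glue (allRange_glue (allRange_glue (allRange_glue (allRange_glue (allRange_glue (allRange_glue (allRange_glue (allRange_glue (allRange_glue (allRange_glue (allRange_glue (allRange_glue (allRange_glue (allRange_glue (allRange_glue (allRange_glue (allRange_glue (allRange_glue (allRange_glue (allRange_glue (allRange_glue (allRange_glue (allRange_glue (allRange_glue (allRange_glue (allRange_glue (allRange_glue (allRange_glue (allRange_glue (allRange_glue (allRange_glue (allRange_glue (allRange_glue (allRange_glue (allRange_glue (allRange_glue (allRange_glue (allRange_glue (allRange_glue (allRange_glue (allRange_glue (allRange_glue (allRange_glue (allRange_glue (allRange_glue (allRange_glue (allRange_glue (allRange_glue (allRange_glue (allRange_glue (allRange_glue (allRange_glue (allRange_glue (allRange_glue (allRange_glue (allRange_glue (allRange_glue (allRange_glue (allRange_glue (allRange_glue (allRange_glue (allRange_glue (allRange_glue (allRange_glue (allRange_glue (allRange_glue (allRange_glue (allRange_glue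 (allRange_glue (allRange_glue (allRange_glue (allRange_glue (allRange_glue (allRange_glue (allRange_glue (allRange_glue (allRange_glue (allRange_glue (allRange_glue (allRange_glue (allRange_glue (allRange_glue (allRange_glue (allRange_glue (allRange_glue (allRange_glue (allRange_glue (allRange_glue (allRange_glue (allRange_glue (allRange_glue (allRange_glue (allRange_glue (allRange_glue (allRange_glue (allRange_glue (allRange_glue (allRange_glue (allRange_glue (allRange_glue (allRange_glue (allRange_glue (allRange_glue (allRange_glue (allRange_glue (allRange_glue (allRange_glue (allRange_glue (allRange_glue (allRange_glue (allRange_glue (allRange_glue (allRange_glue (allRange_glue (allRange_glue (allRange_glue (allRange_glue (allRange_glue (allRange_glue (allRange_glue (allRange_glue (allRange_glue (allRange_glue (allRange_glue (allRange_glue (allRange_glue (allRange_glue (allRange_glue (allRange_glue (allRange_glue (allRange_glue (allRange_glue (allRange_glue (allRange_glue (allRange_glue (allRange_glue (allRange_glue (allRange_glue (allRange_glue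 (allRange_glue (allRange_glue (allRange_glue (allRange_glue (allRange_glue (allRange_glue (allRange_glue (allRange_glue (allRange_glue (allRange_glue (allRange_glue (allRange_glue (allRange_glue (allRange_glue (allRange_glue (allRange_glue (allRange_glue (allRange_glue (allRange_glue (allRange_glue (allRange_glue (allRange_glue (allRange_glue (allRange_glue (allRange_glue (allRange_glue (allRange_glue (allRange_glue (allRange_glue (allRange_glue (allRange_glue (allRange_glue (allRange_glue (allRange_glue (allRange_glue (allRange_glue (allRange_glue (allRange_glue (allRange_glue (allRange_glue (allRange_glue (allRange_glue (allRange_glue (allRange_glue (allRange_glue (allRange_glue (allRange_glue (allRange_glue (allRange_glue (allRange_glue (allRange_glue (allRange_glue (allRange_glue (allRange_glue (allRange_glue (allRange_glue (allRange_glue (allRange_glue (allRange_glue (allRange_glue (allRange_glue (allRange_glue (allRange_glue (allRange_glue (allRange_glue (allRange_glue (allRange_glue (allRange_glue (allRange_glue (allRange_glue (allRange_glue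 (allRange_glue (allRange_glue (allRange_glue (allRange_glue (allRange_glue (allRange_glue (allRange_glue (allRange_glue (allRange_glue (allRange_glue (allRange_glue (allRange_glue (allRange_glue (allRange_glue (allRange_glue (allRange_glue (allRange_glue (allRange_glue (allRange_glue (allRange_glue (allRange_glue (allRange_glue (allRange_glue (allRange_glue (allRange_glue (allRange_glue (allRange_glue (allRange_glue (allRange_glue (allRange_glue (allRange_glue (allRange_glue (allRange_glue (allRange_glue (allRange_glue (allRange_glue (allRange_glue (allRange_glue (allRange_glue (allRange_glue (allRange_glue (allRange_glue (allRange_glue (allRange_glue (allRange_glue (allRange_glue (allRange_glue (allRange_glue (allRange_glue (allRange_glue (allRange_glue (allRange_glue (allRange_glue (allRange_glue (allRange_glue (allRange_glue (allRange_glue (allRange_glue (allRange_glue (allRange_glue (allRange_glue (allRange_glue (allRange_glue (allRange_glue (allRange_glue (allRange_glue (allRange_glue (allRange_glue (allRange_glue (allRange_glue (allRange_glue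 (allRange_glue (allRange_glue (allRange_glue (allRange_glue (allRange_glue (allRange_glue (allRange_glue (allRange_glue (allRange_glue (allRange_glue (allRange_glue (allRange_glue (allRange_glue (allRange_glue (allRange_glue (allRange_glue (allRange_glue (allRange_glue (allRange_glue (allRange_glue (allRange_glue (allRange_glue (allRange_glue (allRange_glue (allRange_glue (allRange_glue (allRange_glue (allRange_glue (allRange_glue (allRange_glue (allRange_glue (allRange_glue (allRange_glue (allRange_glue (allRange_glue (allRange_glue (allRange_glue (allRange_glue (allRange_glue (allRange_glue (allRange_glue pz0 pz1) pz2) pz3) pz4) pz5) pz6) pz7) pz8) pz9) pz10) pz11) pz12) pz13) pz14) pz15) pz16) pz17) pz18) pz19) pz20) pz21) pz22) pz23) pz24) pz25) pz26) pz27) pz28) pz29) pz30) pz31) pz32) pz33) pz34) pz35) pz36) pz37) pz38) pz39) pz40) pz41) pz42) pz43) pz44) pz45) pz46) pz47) pz48) pz49) pz50) pz51) pz52) pz53) pz54) pz55) pz56) pz57) pz58) pz59) pz60) pz61) pz62) pz63) pz64) pz65) pz66) pz67) pz68) pz69) pz70) pz71) pz72) pz73) pz74) pz75) pz76)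 pz77) pz78) pz79) pz80) pz81) pz82) pz83) pz84) pz85) pz86) pz87) pz88) pz89) pz90) pz91) pz92) pz93) pz94) pz95) pz96) pz97) pz98) pz99) pz100) pz101) pz102) pz103) pz104) pz105) pz106) pz107) pz108) pz109) pz110) pz111) pz112) pz113) pz114) pz115) pz116) pz117) pz118) pz119) pz120) pz121) pz122) pz123) pz124) pz125) pz126) pz127) pz128) pz129) pz130) pz131) pz132) pz133) pz134) pz135) pz136) pz137) pz138) pz139) pz140) pz141) pz142) pz143) pz144) pz145) pz146) pz147) pz148) pz149) pz150) pz151) pz152) pz153) pz154) pz155) pz156) pz157) pz158) pz159) pz160) pz161) pz162) pz163) pz164) pz165) pz166) pz167) pz168) pz169) pz170) pz171) pz172) pz173) pz174) pz175) pz176) pz177) pz178) pz179) pz180) pz181) pz182) pz183) pz184) pz185) pz186) pz187) pz188) pz189) pz190) pz191) pz192) pz193) pz194) pz195) pz196) pz197) pz198) pz199) pz200) pz201) pz202) pz203) pz204) pz205) pz206) pz207) pz208) pz209) pz210) pz211) pz212) pz213) pz214) pz215) pz216) pz217) pz218) pz219) pz220) pz221) pz222) pz223) pz224) pz225) pz226) pz227) pz228) pz229) pz230) pz231) pz232)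 pz233) pz234) pz235) pz236) pz237) pz238) pz239) pz240) pz241) pz242) pz243) pz244) pz245) pz246) pz247) pz248) pz249) pz250) pz251) pz252) pz253) pz254) pz255) pz256) pz257) pz258) pz259) pz260) pz261) pz262) pz263) pz264) pz265) pz266) pz267) pz268) pz269) pz270) pz271) pz272) pz273) pz274) pz275) pz276) pz277) pz278) pz279) pz280) pz281) pz282) pz283) pz284) pz285) pz286) pz287) pz288) pz289) pz290) pz291) pz292) pz293) pz294) pz295) pz296) pz297) pz298) pz299) pz300) pz301) pz302) pz303) pz304) pz305) pz306) pz307) pz308) pz309) pz310) pz311) pz312) pz313) pz314) pz315) pz316) pz317) pz318) pz319) pz320) pz321) pz322) pz323) pz324) pz325) pz326) pz327) pz328) pz329) pz330) pz331) pz332) pz333) pz334) pz335) pz336) pz337) pz338) pz339) pz340) pz341) pz342) pz343) pz344) pz345) pz346) pz347) pz348) pz349) pz350) pz351) pz352) pz353) pz354) pz355) pz356) pz357) pz358) pz359) pz360) pz361) pz362) pz363) pz364) pz365) pz366) pz367) pz368) pz369) pz370) pz371) pz372) pz373) pz374) pz375) pz376) pz377) pz378) pz379) pz380) pz381) pz382) pz383) pz384)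 pz385) pz386) pz387) pz388) pz389) pz390) pz391) pz392) pz393) pz394) pz395) pz396) pz397) pz398) pz399) pz400) pz401) pz402) pz403) pz404) pz405) pz406) pz407) pz408) pz409) pz410) pz411) pz412) pz413) pz414) pz415) pz416) pz417) pz418) pz419) pz420) pz421) pz422) pz423) pz424) pz425) pz426) pz427) pz428) pz429) pz430) pz431) pz432) pz433) pz434) pz435) pz436) pz437) pz438) pz439) pz440) pz441) pz442) pz443) pz444) pz445) pz446) pz447) pz448) pz449) pz450) pz451) pz452) pz453) pz454) pz455) pz456) pz457) pz458) pz459) pz460) pz461) pz462) pz463) pz464) pz465) pz466) pz467) pz468) pz469) pz470) pz471) pz472) pz473) pz474) pz475) pz476) pz477) pz478) pz479) pz480) pz481) pz482) pz483) pz484) pz485) pz486) pz487) pz488) pz489) pz490) pz491) pz492) pz493) pz494) pz495) pz496) pz497) pz498) pz499) pz500) pz501) pz502) pz503) pz504) pz505) pz506) pz507) pz508) pz509) pz510) pz511)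

theorem pe_all : Big.powEndOK data [8,5,0,1,2,3,4] 9 10 pwE 0 306936 = true :=
  (allRange_glue (allRange_glue (allRange_glue (allRange_glue (allRange_glue (allRange_glue (allRange_glue (allRange_glue (allRange_glue (allRange_glue (allRange_glue (allRange_glue (allRange_glue (allRange_glue (allRange_glue (allRange_glue (allRange_glue (allRange_glue (allRange_glue (allRange_glue (allRange_glue (allRange_glue (allRange_glue (allRange_glue (allRange_glue (allRange_glue (allRange_glue (allRange_glue (allRange_glue (allRange_glue (allRange_glue (allRange_glue (allRange_glue (allRange_glue (allRange_glue (allRange_glue (allRange_glue (allRange_glue (allRange_glue (allRange_glue (allRange_glue (allRange_glue (allRange_glue (allRange_glue (allRange_glue (allRange_glue (allRange_glue (allRange_glue (allRange_glue (allRange_glue (allRange_glue (allRange_glue (allRange_glue (allRange_glue (allRange_glue (allRange_glue (allRange_glue (allRange_glue (allRange_glue (allRange_glue (allRange_glue (allRange_glue (allRange_glue (allRange_glue (allRange_glue (allRange_glue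 (allRange_glue (allRange_glue (allRange_glue (allRange_glue (allRange_glue (allRange_glue (allRange_glue (allRange_glue (allRange_glue (allRange_glue (allRange_glue (allRange_glue (allRange_glue (allRange_glue (allRange_glue (allRange_glue (allRange_glue (allRange_glue (allRange_glue (allRange_glue (allRange_glue (allRange_glue (allRange_glue (allRange_glue (allRange_glue (allRange_glue (allRange_glue (allRange_glue (allRange_glue (allRange_glue (allRange_glue (allRange_glue (allRange_glue (allRange_glue (allRange_glue (allRange_glue (allRange_glue (allRange_glue (allRange_glue (allRange_glue (allRange_glue (allRange_glue (allRange_glue (allRange_glue (allRange_glue (allRange_glue (allRange_glue (allRange_glue (allRange_glue (allRange_glue (allRange_glue (allRange_glue (allRange_glue (allRange_glue (allRange_glue (allRange_glue (allRange_glue (allRange_glue (allRange_glue (allRange_glue (allRange_glue (allRange_glue (allRange_glue (allRange_glue (allRange_glue (allRange_glue (allRange_glue (allRange_glue (allRange_glue (allRange_glue (allRange_glue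 (allRange_glue (allRange_glue (allRange_glue (allRange_glue (allRange_glue (allRange_glue (allRange_glue (allRange_glue (allRange_glue (allRange_glue (allRange_glue (allRange_glue (allRange_glue (allRange_glue (allRange_glue (allRange_glue (allRange_glue (allRange_glue (allRange_glue (allRange_glue (allRange_glue (allRange_glue (allRange_glue (allRange_glue (allRange_glue (allRange_glue (allRange_glue (allRange_glue (allRange_glue (allRange_glue (allRange_glue (allRange_glue (allRange_glue (allRange_glue (allRange_glue (allRange_glue (allRange_glue (allRange_glue (allRange_glue (allRange_glue (allRange_glue (allRange_glue (allRange_glue (allRange_glue (allRange_glue (allRange_glue (allRange_glue (allRange_glue (allRange_glue (allRange_glue (allRange_glue (allRange_glue (allRange_glue (allRange_glue (allRange_glue (allRange_glue (allRange_glue (allRange_glue (allRange_glue (allRange_glue (allRange_glue (allRange_glue (allRange_glue (allRange_glue (allRange_glue (allRange_glue (allRange_glue (allRange_glue (allRange_glue (allRange_glue (allRange_glue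 (allRange_glue (allRange_glue (allRange_glue (allRange_glue (allRange_glue (allRange_glue (allRange_glue (allRange_glue (allRange_glue (allRange_glue (allRange_glue (allRange_glue (allRange_glue (allRange_glue (allRange_glue (allRange_glue (allRange_glue (allRange_glue (allRange_glue (allRange_glue (allRange_glue (allRange_glue (allRange_glue (allRange_glue (allRange_glue (allRange_glue (allRange_glue (allRange_glue (allRange_glue (allRange_glue (allRange_glue (allRange_glue (allRange_glue (allRange_glue (allRange_glue (allRange_glue (allRange_glue (allRange_glue (allRange_glue (allRange_glue (allRange_glue (allRange_glue (allRange_glue (allRange_glue (allRange_glue (allRange_glue (allRange_glue (allRange_glue (allRange_glue (allRange_glue (allRange_glue (allRange_glue (allRange_glue (allRange_glue (allRange_glue (allRange_glue (allRange_glue (allRange_glue (allRange_glue (allRange_glue (allRange_glue (allRange_glue (allRange_glue (allRange_glue (allRange_glue (allRange_glue (allRange_glue (allRange_glue (allRange_glue (allRange_glue (allRange_glue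 (allRange_glue (allRange_glue (allRange_glue (allRange_glue (allRange_glue (allRange_glue (allRange_glue (allRange_glue (allRange_glue (allRange_glue (allRange_glue (allRange_glue (allRange_glue (allRange_glue (allRange_glue (allRange_glue (allRange_glue (allRange_glue (allRange_glue (allRange_glue (allRange_glue (allRange_glue (allRange_glue (allRange_glue (allRange_glue (allRange_glue (allRange_glue (allRange_glue (allRange_glue (allRange_glue (allRange_glue (allRange_glue (allRange_glue (allRange_glue (allRange_glue (allRange_glue (allRange_glue (allRange_glue (allRange_glue (allRange_glue (allRange_glue (allRange_glue (allRange_glue (allRange_glue (allRange_glue (allRange_glue (allRange_glue (allRange_glue (allRange_glue (allRange_glue (allRange_glue (allRange_glue (allRange_glue (allRange_glue (allRange_glue (allRange_glue (allRange_glue (allRange_glue (allRange_glue (allRange_glue (allRange_glue (allRange_glue (allRange_glue (allRange_glue (allRange_glue (allRange_glue (allRange_glue (allRange_glue (allRange_glue (allRange_glue (allRange_glue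 (allRange_glue (allRange_glue (allRange_glue (allRange_glue (allRange_glue (allRange_glue (allRange_glue (allRange_glue (allRange_glue (allRange_glue (allRange_glue (allRange_glue (allRange_glue (allRange_glue (allRange_glue (allRange_glue (allRange_glue (allRange_glue (allRange_glue (allRange_glue (allRange_glue (allRange_glue (allRange_glue (allRange_glue (allRange_glue (allRange_glue (allRange_glue (allRange_glue (allRange_glue (allRange_glue (allRange_glue (allRange_glue (allRange_glue (allRange_glue (allRange_glue (allRange_glue (allRange_glue (allRange_glue (allRange_glue (allRange_glue (allRange_glue (allRange_glue (allRange_glue (allRange_glue (allRange_glue (allRange_glue (allRange_glue (allRange_glue (allRange_glue (allRange_glue (allRange_glue (allRange_glue (allRange_glue (allRange_glue (allRange_glue (allRange_glue (allRange_glue (allRange_glue (allRange_glue (allRange_glue (allRange_glue (allRange_glue (allRange_glue (allRange_glue (allRange_glue (allRange_glue (allRange_glue (allRange_glue (allRange_glue (allRange_glue (allRange_glue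 (allRange_glue (allRange_glue (allRange_glue (allRange_glue (allRange_glue (allRange_glue (allRange_glue (allRange_glue (allRange_glue (allRange_glue (allRange_glue (allRange_glue (allRange_glue (allRange_glue (allRange_glue (allRange_glue (allRange_glue (allRange_glue (allRange_glue (allRange_glue (allRange_glue (allRange_glue (allRange_glue (allRange_glue (allRange_glue (allRange_glue (allRange_glue (allRange_glue (allRange_glue (allRange_glue (allRange_glue (allRange_glue (allRange_glue (allRange_glue (allRange_glue (allRange_glue (allRange_glue (allRange_glue (allRange_glue (allRange_glue (allRange_glue (allRange_glue (allRange_glue (allRange_glue (allRange_glue (allRange_glue (allRange_glue (allRange_glue (allRange_glue (allRange_glue (allRange_glue (allRange_glue (allRange_glue (allRange_glue (allRange_glue (allRange_glue (allRange_glue (allRange_glue (allRange_glue (allRange_glue (allRange_glue (allRange_glue (allRange_glue (allRange_glue (allRange_glue (allRange_glue (allRange_glue (allRange_glue (allRange_glue (allRange_glue (allRange_glue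 (allRange_glue (allRange_glue (allRange_glue (allRange_glue (allRange_glue (allRange_glue (allRange_glue (allRange_glue (allRange_glue (allRange_glue (allRange_glue (allRange_glue (allRange_glue (allRange_glue (allRange_glue (allRange_glue (allRange_glue (allRange_glue (allRange_glue pe0 pe1) pe2) pe3) pe4) pe5) pe6) pe7) pe8) pe9) pe10) pe11) pe12) pe13) pe14) pe15) pe16) pe17) pe18) pe19) pe20) pe21) pe22) pe23) pe24) pe25) pe26) pe27) pe28) pe29) pe30) pe31) pe32) pe33) pe34) pe35) pe36) pe37) pe38) pe39) pe40) pe41) pe42) pe43) pe44) pe45) pe46) pe47) pe48) pe49) pe50) pe51) pe52) pe53) pe54) pe55) pe56) pe57) pe58) pe59) pe60) pe61) pe62) pe63) pe64) pe65) pe66) pe67) pe68) pe69) pe70) pe71) pe72) pe73) pe74) pe75) pe76) pe77) pe78) pe79) pe80) pe81) pe82) pe83) pe84) pe85) pe86) pe87) pe88) pe89) pe90) pe91) pe92) pe93) pe94) pe95) pe96) pe97) pe98) pe99) pe100) pe101) pe102) pe103) pe104) pe105) pe106) pe107) pe108) pe109) pe110) pe111) pe112) pe113) pe114) pe115) pe116) pe117) pe118) pe119) pe120) pe121) pe122) pe123) pe124) pe125) pe126)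 pe127) pe128) pe129) pe130) pe131) pe132) pe133) pe134) pe135) pe136) pe137) pe138) pe139) pe140) pe141) pe142) pe143) pe144) pe145) pe146) pe147) pe148) pe149) pe150) pe151) pe152) pe153) pe154) pe155) pe156) pe157) pe158) pe159) pe160) pe161) pe162) pe163) pe164) pe165) pe166) pe167) pe168) pe169) pe170) pe171) pe172) pe173) pe174) pe175) pe176) pe177) pe178) pe179) pe180) pe181) pe182) pe183) pe184) pe185) pe186) pe187) pe188) pe189) pe190) pe191) pe192) pe193) pe194) pe195) pe196) pe197) pe198) pe199) pe200) pe201) pe202) pe203) pe204) pe205) pe206) pe207) pe208) pe209) pe210) pe211) pe212) pe213) pe214) pe215) pe216) pe217) pe218) pe219) pe220) pe221) pe222) pe223) pe224) pe225) pe226) pe227) pe228) pe229) pe230) pe231) pe232) pe233) pe234) pe235) pe236) pe237) pe238) pe239) pe240) pe241) pe242) pe243) pe244) pe245) pe246) pe247) pe248) pe249) pe250) pe251) pe252) pe253) pe254) pe255) pe256) pe257) pe258) pe259) pe260) pe261) pe262) pe263) pe264) pe265) pe266) pe267) pe268) pe269) pe270) pe271) pe272) pe273) pe274) pe275) pe276) pe277) pe278)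 pe279) pe280) pe281) pe282) pe283) pe284) pe285) pe286) pe287) pe288) pe289) pe290) pe291) pe292) pe293) pe294) pe295) pe296) pe297) pe298) pe299) pe300) pe301) pe302) pe303) pe304) pe305) pe306) pe307) pe308) pe309) pe310) pe311) pe312) pe313) pe314) pe315) pe316) pe317) pe318) pe319) pe320) pe321) pe322) pe323) pe324) pe325) pe326) pe327) pe328) pe329) pe330) pe331) pe332) pe333) pe334) pe335) pe336) pe337) pe338) pe339) pe340) pe341) pe342) pe343) pe344) pe345) pe346) pe347) pe348) pe349) pe350) pe351) pe352) pe353) pe354) pe355) pe356) pe357) pe358) pe359) pe360) pe361) pe362) pe363) pe364) pe365) pe366) pe367) pe368) pe369) pe370) pe371) pe372) pe373) pe374) pe375) pe376) pe377) pe378) pe379) pe380) pe381) pe382) pe383) pe384) pe385) pe386) pe387) pe388) pe389) pe390) pe391) pe392) pe393) pe394) pe395) pe396) pe397) pe398) pe399) pe400) pe401) pe402) pe403) pe404) pe405) pe406) pe407) pe408) pe409) pe410) pe411) pe412) pe413) pe414) pe415) pe416) pe417) pe418) pe419) pe420) pe421) pe422) pe423) pe424) pe425) pe426) pe427) pe428) pe429) pe430)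 pe431) pe432) pe433) pe434) pe435) pe436) pe437) pe438) pe439) pe440) pe441) pe442) pe443) pe444) pe445) pe446) pe447) pe448) pe449) pe450) pe451) pe452) pe453) pe454) pe455) pe456) pe457) pe458) pe459) pe460) pe461) pe462) pe463) pe464) pe465) pe466) pe467) pe468) pe469) pe470) pe471) pe472) pe473) pe474) pe475) pe476) pe477) pe478) pe479) pe480) pe481) pe482) pe483) pe484) pe485) pe486) pe487) pe488) pe489) pe490) pe491) pe492) pe493) pe494) pe495) pe496) pe497) pe498) pe499) pe500) pe501) pe502) pe503) pe504) pe505) pe506) pe507) pe508) pe509) pe510) pe511)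

end

theorem relFix : ∀ w ∈ data.words.take data.nrel, ∀ c < data.n, pathEnd data.T w c = c := by
  have hi : ∀ {x y : ℕ}, x < data.ng → y < data.ng → ∀ c < data.n, data.T x c < data.n ∧ data.T x (data.T x c) = c ∧
      data.T y c < data.n ∧ data.T y (data.T y c) = c := fun hx hy c hc =>
    ⟨(tables.closed hx hc).1, (tables.closed hx hc).2, (tables.closed hy hc).1, (tables.closed hy hc).2⟩
  have hr : ∀ c < data.n, nodeRel c = true := fun c hc => allRange_spec rel_all c (Nat.zero_le _) (by
    rw [Nat.zero_add]; exact hc)
  have hall : ∀ c < data.n, (data.T 0 (data.T 1 (data.T 0 c)) = data.T 1 (data.T 0 (data.T 1 c))) ∧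
      (data.T 2 (data.T 0 c) = data.T 0 (data.T 2 c)) ∧
      (data.T 3 (data.T 0 c) = data.T 0 (data.T 3 c)) ∧
      (data.T 4 (data.T 0 c) = data.T 0 (data.T 4 c)) ∧
      (data.T 0 (data.T 5 (data.T 0 c)) = data.T 5 (data.T 0 (data.T 5 c))) ∧
      (data.T 6 (data.T 0 c) = data.T 0 (data.T 6 c)) ∧
      (data.T 7 (data.T 0 c) = data.T 0 (data.T 7 c)) ∧
      (data.T 8 (data.T 0 c) = data.T 0 (data.T 8 c)) ∧
      (data.T 9 (data.T 0 c) = data.T 0 (data.T 9 c)) ∧
      (data.T 10 (data.T 0 c) = data.T 0 (data.T 10 c)) ∧
      (data.T 11 (data.T 0 c) = data.T 0 (data.T 11 c)) ∧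
      (data.T 1 (data.T 2 (data.T 1 c)) = data.T 2 (data.T 1 (data.T 2 c))) ∧
      (data.T 3 (data.T 1 c) = data.T 1 (data.T 3 c)) ∧
      (data.T 1 (data.T 4 (data.T 1 c)) = data.T 4 (data.T 1 (data.T 4 c))) ∧
      (data.T 5 (data.T 1 c) = data.T 1 (data.T 5 c)) ∧
      (data.T 6 (data.T 1 c) = data.T 1 (data.T 6 c)) ∧
      (data.T 7 (data.T 1 c) = data.T 1 (data.T 7 c)) ∧
      (data.T 8 (data.T 1 c) = data.T 1 (data.T 8 c)) ∧
      (data.T 9 (data.T 1 c) = data.T 1 (data.T 9 c)) ∧
      (data.T 10 (data.T 1 c) = data.T 1 (data.T 10 c)) ∧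
      (data.T 11 (data.T 1 c) = data.T 1 (data.T 11 c)) ∧
      (data.T 2 (data.T 3 (data.T 2 c)) = data.T 3 (data.T 2 (data.T 3 c))) ∧
      (data.T 4 (data.T 2 c) = data.T 2 (data.T 4 c)) ∧
      (data.T 5 (data.T 2 c) = data.T 2 (data.T 5 c)) ∧
      (data.T 6 (data.T 2 c) = data.T 2 (data.T 6 c)) ∧
      (data.T 7 (data.T 2 c) = data.T 2 (data.T 7 c)) ∧
      (data.T 8 (data.T 2 c) = data.T 2 (data.T 8 c)) ∧
      (data.T 9 (data.T 2 c) = data.T 2 (data.T 9 c)) ∧
      (data.T 10 (data.T 2 c) = data.T 2 (data.T 10 c)) ∧
      (data.T 11 (data.T 2 c) = data.T 2 (data.T 11 c)) ∧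
      (data.T 4 (data.T 3 c) = data.T 3 (data.T 4 c)) ∧
      (data.T 5 (data.T 3 c) = data.T 3 (data.T 5 c)) ∧
      (data.T 6 (data.T 3 c) = data.T 3 (data.T 6 c)) ∧
      (data.T 3 (data.T 7 (data.T 3 c)) = data.T 7 (data.T 3 (data.T 7 c))) ∧
      (data.T 8 (data.T 3 c) = data.T 3 (data.T 8 c)) ∧
      (data.T 9 (data.T 3 c) = data.T 3 (data.T 9 c)) ∧
      (data.T 10 (data.T 3 c) = data.T 3 (data.T 10 c)) ∧
      (data.T 11 (data.T 3 c) = data.T 3 (data.T 11 c)) ∧
      (data.T 5 (data.T 4 c) = data.T 4 (data.T 5 c)) ∧
      (data.T 4 (data.T 6 (data.T 4 c)) = data.T 6 (data.T 4 (data.T 6 c))) ∧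
      (data.T 7 (data.T 4 c) = data.T 4 (data.T 7 c)) ∧
      (data.T 8 (data.T 4 c) = data.T 4 (data.T 8 c)) ∧
      (data.T 9 (data.T 4 c) = data.T 4 (data.T 9 c)) ∧
      (data.T 10 (data.T 4 c) = data.T 4 (data.T 10 c)) ∧
      (data.T 11 (data.T 4 c) = data.T 4 (data.T 11 c)) ∧
      (data.T 6 (data.T 5 c) = data.T 5 (data.T 6 c)) ∧
      (data.T 7 (data.T 5 c) = data.T 5 (data.T 7 c)) ∧
      (data.T 5 (data.T 8 (data.T 5 c)) = data.T 8 (data.T 5 (data.T 8 c))) ∧
      (data.T 9 (data.T 5 c) = data.T 5 (data.T 9 c)) ∧
      (data.T 10 (data.T 5 c) = data.T 5 (data.T 10 c)) ∧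
      (data.T 11 (data.T 5 c) = data.T 5 (data.T 11 c)) ∧
      (data.T 7 (data.T 6 c) = data.T 6 (data.T 7 c)) ∧
      (data.T 8 (data.T 6 c) = data.T 6 (data.T 8 c)) ∧
      (data.T 9 (data.T 6 c) = data.T 6 (data.T 9 c)) ∧
      (data.T 10 (data.T 6 c) = data.T 6 (data.T 10 c)) ∧
      (data.T 11 (data.T 6 c) = data.T 6 (data.T 11 c)) ∧
      (data.T 8 (data.T 7 c) = data.T 7 (data.T 8 c)) ∧
      (data.T 7 (data.T 9 (data.T 7 c)) = data.T 9 (data.T 7 (data.T 9 c))) ∧
      (data.T 10 (data.T 7 c) = data.T 7 (data.T 10 c)) ∧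
      (data.T 11 (data.T 7 c) = data.T 7 (data.T 11 c)) ∧
      (data.T 9 (data.T 8 c) = data.T 8 (data.T 9 c)) ∧
      (data.T 10 (data.T 8 c) = data.T 8 (data.T 10 c)) ∧
      (data.T 8 (data.T 11 (data.T 8 c)) = data.T 11 (data.T 8 (data.T 11 c))) ∧
      (data.T 10 (data.T 9 c) = data.T 9 (data.T 10 c)) ∧
      (data.T 11 (data.T 9 c) = data.T 9 (data.T 11 c)) ∧
      (data.T 10 (data.T 11 (data.T 10 c)) = data.T 11 (data.T 10 (data.T 11 c))) := by
    intro c hc
    have h := hr c hc
    simp only [nodeRel, force_eq, Big.ba_eq, Bool.and_eq_true, Nat.beq_eq] at h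
    exact h
  simp only [data, Big.mkData, words, List.take_succ_cons, List.take_zero, List.forall_mem_cons, List.not_mem_nil,
    IsEmpty.forall_iff, implies_true, and_true]
  exact ⟨fun c hc => (tables.closed (g := 0) (by decide) hc).2,
    fun c hc => (tables.closed (g := 1) (by decide) hc).2,
    fun c hc => (tables.closed (g := 2) (by decide) hc).2,
    fun c hc => (tables.closed (g := 3) (by decide) hc).2,
    fun c hc => (tables.closed (g := 4) (by decide) hc).2,
    fun c hc => (tables.closed (g := 5) (by decide) hc).2,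
    fun c hc => (tables.closed (g := 6) (by decide) hc).2,
    fun c hc => (tables.closed (g := 7) (by decide) hc).2,
    fun c hc => (tables.closed (g := 8) (by decide) hc).2,
    fun c hc => (tables.closed (g := 9) (by decide) hc).2,
    fun c hc => (tables.closed (g := 10) (by decide) hc).2,
    fun c hc => (tables.closed (g := 11) (by decide) hc).2,
    Big.fix_braid (T := data.T) (m := data.n) (x := 0) (y := 1) (hi (by decide) (by decide)) fun c hc => (hall c hc).1,
    Big.fix_comm (T := data.T) (m := data.n) (x := 0) (y := 2) (hi (by decide) (by decide)) fun c hc => (hall c hc).2.1,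
    Big.fix_comm (T := data.T) (m := data.n) (x := 0) (y := 3) (hi (by decide) (by decide)) fun c hc => (hall c hc).2.2.1,
    Big.fix_comm (T := data.T) (m := data.n) (x := 0) (y := 4) (hi (by decide) (by decide)) fun c hc => (hall c hc).2.2.2.1,
    Big.fix_braid (T := data.T) (m := data.n) (x := 0) (y := 5) (hi (by decide) (by decide)) fun c hc => (hall c hc).2.2.2.2.1,
    Big.fix_comm (T := data.T) (m := data.n) (x := 0) (y := 6) (hi (by decide) (by decide)) fun c hc => (hall c hc).2.2.2.2.2.1,
    Big.fix_comm (T := data.T) (m := data.n) (x := 0) (y := 7) (hi (by decide) (by decide)) fun c hc => (hall c hc).2.2.2.2.2.2.1,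
    Big.fix_comm (T := data.T) (m := data.n) (x := 0) (y := 8) (hi (by decide) (by decide)) fun c hc => (hall c hc).2.2.2.2.2.2.2.1,
    Big.fix_comm (T := data.T) (m := data.n) (x := 0) (y := 9) (hi (by decide) (by decide)) fun c hc => (hall c hc).2.2.2.2.2.2.2.2.1,
    Big.fix_comm (T := data.T) (m := data.n) (x := 0) (y := 10) (hi (by decide) (by decide)) fun c hc => (hall c hc).2.2.2.2.2.2.2.2.2.1,
    Big.fix_comm (T := data.T) (m := data.n) (x := 0) (y := 11) (hi (by decide) (by decide)) fun c hc => (hall c hc).2.2.2.2.2.2.2.2.2.2.1,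
    Big.fix_braid (T := data.T) (m := data.n) (x := 1) (y := 2) (hi (by decide) (by decide)) fun c hc => (hall c hc).2.2.2.2.2.2.2.2.2.2.2.1,
    Big.fix_comm (T := data.T) (m := data.n) (x := 1) (y := 3) (hi (by decide) (by decide)) fun c hc => (hall c hc).2.2.2.2.2.2.2.2.2.2.2.2.1,
    Big.fix_braid (T := data.T) (m := data.n) (x := 1) (y := 4) (hi (by decide) (by decide)) fun c hc => (hall c hc).2.2.2.2.2.2.2.2.2.2.2.2.2.1,
    Big.fix_comm (T := data.T) (m := data.n) (x := 1) (y := 5) (hi (by decide) (by decide)) fun c hc => (hall c hc).2.2.2.2.2.2.2.2.2.2.2.2.2.2.1,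
    Big.fix_comm (T := data.T) (m := data.n) (x := 1) (y := 6) (hi (by decide) (by decide)) fun c hc => (hall c hc).2.2.2.2.2.2.2.2.2.2.2.2.2.2.2.1,
    Big.fix_comm (T := data.T) (m := data.n) (x := 1) (y := 7) (hi (by decide) (by decide)) fun c hc => (hall c hc).2.2.2.2.2.2.2.2.2.2.2.2.2.2.2.2.1,
    Big.fix_comm (T := data.T) (m := data.n) (x := 1) (y := 8) (hi (by decide) (by decide)) fun c hc => (hall c hc).2.2.2.2.2.2.2.2.2.2.2.2.2.2.2.2.2.1,
    Big.fix_comm (T := data.T) (m := data.n) (x := 1) (y := 9) (hi (by decide) (by decide)) fun c hc => (hall c hc).2.2.2.2.2.2.2.2.2.2.2.2.2.2.2.2.2.2.1,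
    Big.fix_comm (T := data.T) (m := data.n) (x := 1) (y := 10) (hi (by decide) (by decide)) fun c hc => (hall c hc).2.2.2.2.2.2.2.2.2.2.2.2.2.2.2.2.2.2.2.1,
    Big.fix_comm (T := data.T) (m := data.n) (x := 1) (y := 11) (hi (by decide) (by decide)) fun c hc => (hall c hc).2.2.2.2.2.2.2.2.2.2.2.2.2.2.2.2.2.2.2.2.1,
    Big.fix_braid (T := data.T) (m := data.n) (x := 2) (y := 3) (hi (by decide) (by decide)) fun c hc => (hall c hc).2.2.2.2.2.2.2.2.2.2.2.2.2.2.2.2.2.2.2.2.2.1,
    Big.fix_comm (T := data.T) (m := data.n) (x := 2) (y := 4) (hi (by decide) (by decide)) fun c hc => (hall c hc).2.2.2.2.2.2.2.2.2.2.2.2.2.2.2.2.2.2.2.2.2.2.1,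
    Big.fix_comm (T := data.T) (m := data.n) (x := 2) (y := 5) (hi (by decide) (by decide)) fun c hc => (hall c hc).2.2.2.2.2.2.2.2.2.2.2.2.2.2.2.2.2.2.2.2.2.2.2.1,
    Big.fix_comm (T := data.T) (m := data.n) (x := 2) (y := 6) (hi (by decide) (by decide)) fun c hc => (hall c hc).2.2.2.2.2.2.2.2.2.2.2.2.2.2.2.2.2.2.2.2.2.2.2.2.1,
    Big.fix_comm (T := data.T) (m := data.n) (x := 2) (y := 7) (hi (by decide) (by decide)) fun c hc => (hall c hc).2.2.2.2.2.2.2.2.2.2.2.2.2.2.2.2.2.2.2.2.2.2.2.2.2.1,
    Big.fix_comm (T := data.T) (m := data.n) (x := 2) (y := 8) (hi (by decide) (by decide)) fun c hc => (hall c hc).2.2.2.2.2.2.2.2.2.2.2.2.2.2.2.2.2.2.2.2.2.2.2.2.2.2.1,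
    Big.fix_comm (T := data.T) (m := data.n) (x := 2) (y := 9) (hi (by decide) (by decide)) fun c hc => (hall c hc).2.2.2.2.2.2.2.2.2.2.2.2.2.2.2.2.2.2.2.2.2.2.2.2.2.2.2.1,
    Big.fix_comm (T := data.T) (m := data.n) (x := 2) (y := 10) (hi (by decide) (by decide)) fun c hc => (hall c hc).2.2.2.2.2.2.2.2.2.2.2.2.2.2.2.2.2.2.2.2.2.2.2.2.2.2.2.2.1,
    Big.fix_comm (T := data.T) (m := data.n) (x := 2) (y := 11) (hi (by decide) (by decide)) fun c hc => (hall c hc).2.2.2.2.2.2.2.2.2.2.2.2.2.2.2.2.2.2.2.2.2.2.2.2.2.2.2.2.2.1,
    Big.fix_comm (T := data.T) (m := data.n) (x := 3) (y := 4) (hi (by decide) (by decide)) fun c hc => (hall c hc).2.2.2.2.2.2.2.2.2.2.2.2.2.2.2.2.2.2.2.2.2.2.2.2.2.2.2.2.2.2.1,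
    Big.fix_comm (T := data.T) (m := data.n) (x := 3) (y := 5) (hi (by decide) (by decide)) fun c hc => (hall c hc).2.2.2.2.2.2.2.2.2.2.2.2.2.2.2.2.2.2.2.2.2.2.2.2.2.2.2.2.2.2.2.1,
    Big.fix_comm (T := data.T) (m := data.n) (x := 3) (y := 6) (hi (by decide) (by decide)) fun c hc => (hall c hc).2.2.2.2.2.2.2.2.2.2.2.2.2.2.2.2.2.2.2.2.2.2.2.2.2.2.2.2.2.2.2.2.1,
    Big.fix_braid (T := data.T) (m := data.n) (x := 3) (y := 7) (hi (by decide) (by decide)) fun c hc => (hall c hc).2.2.2.2.2.2.2.2.2.2.2.2.2.2.2.2.2.2.2.2.2.2.2.2.2.2.2.2.2.2.2.2.2.1,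
    Big.fix_comm (T := data.T) (m := data.n) (x := 3) (y := 8) (hi (by decide) (by decide)) fun c hc => (hall c hc).2.2.2.2.2.2.2.2.2.2.2.2.2.2.2.2.2.2.2.2.2.2.2.2.2.2.2.2.2.2.2.2.2.2.1,
    Big.fix_comm (T := data.T) (m := data.n) (x := 3) (y := 9) (hi (by decide) (by decide)) fun c hc => (hall c hc).2.2.2.2.2.2.2.2.2.2.2.2.2.2.2.2.2.2.2.2.2.2.2.2.2.2.2.2.2.2.2.2.2.2.2.1,
    Big.fix_comm (T := data.T) (m := data.n) (x := 3) (y := 10) (hi (by decide) (by decide)) fun c hc => (hall c hc).2.2.2.2.2.2.2.2.2.2.2.2.2.2.2.2.2.2.2.2.2.2.2.2.2.2.2.2.2.2.2.2.2.2.2.2.1,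
    Big.fix_comm (T := data.T) (m := data.n) (x := 3) (y := 11) (hi (by decide) (by decide)) fun c hc => (hall c hc).2.2.2.2.2.2.2.2.2.2.2.2.2.2.2.2.2.2.2.2.2.2.2.2.2.2.2.2.2.2.2.2.2.2.2.2.2.1,
    Big.fix_comm (T := data.T) (m := data.n) (x := 4) (y := 5) (hi (by decide) (by decide)) fun c hc => (hall c hc).2.2.2.2.2.2.2.2.2.2.2.2.2.2.2.2.2.2.2.2.2.2.2.2.2.2.2.2.2.2.2.2.2.2.2.2.2.2.1,
    Big.fix_braid (T := data.T) (m := data.n) (x := 4) (y := 6) (hi (by decide) (by decide)) fun c hc => (hall c hc).2.2.2.2.2.2.2.2.2.2.2.2.2.2.2.2.2.2.2.2.2.2.2.2.2.2.2.2.2.2.2.2.2.2.2.2.2.2.2.1,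
    Big.fix_comm (T := data.T) (m := data.n) (x := 4) (y := 7) (hi (by decide) (by decide)) fun c hc => (hall c hc).2.2.2.2.2.2.2.2.2.2.2.2.2.2.2.2.2.2.2.2.2.2.2.2.2.2.2.2.2.2.2.2.2.2.2.2.2.2.2.2.1,
    Big.fix_comm (T := data.T) (m := data.n) (x := 4) (y := 8) (hi (by decide) (by decide)) fun c hc => (hall c hc).2.2.2.2.2.2.2.2.2.2.2.2.2.2.2.2.2.2.2.2.2.2.2.2.2.2.2.2.2.2.2.2.2.2.2.2.2.2.2.2.2.1,
    Big.fix_comm (T := data.T) (m := data.n) (x := 4) (y := 9) (hi (by decide) (by decide)) fun c hc => (hall c hc).2.2.2.2.2.2.2.2.2.2.2.2.2.2.2.2.2.2.2.2.2.2.2.2.2.2.2.2.2.2.2.2.2.2.2.2.2.2.2.2.2.2.1,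
    Big.fix_comm (T := data.T) (m := data.n) (x := 4) (y := 10) (hi (by decide) (by decide)) fun c hc => (hall c hc).2.2.2.2.2.2.2.2.2.2.2.2.2.2.2.2.2.2.2.2.2.2.2.2.2.2.2.2.2.2.2.2.2.2.2.2.2.2.2.2.2.2.2.1,
    Big.fix_comm (T := data.T) (m := data.n) (x := 4) (y := 11) (hi (by decide) (by decide)) fun c hc => (hall c hc).2.2.2.2.2.2.2.2.2.2.2.2.2.2.2.2.2.2.2.2.2.2.2.2.2.2.2.2.2.2.2.2.2.2.2.2.2.2.2.2.2.2.2.2.1,
    Big.fix_comm (T := data.T) (m := data.n) (x := 5) (y := 6) (hi (by decide) (by decide)) fun c hc => (hall c hc).2.2.2.2.2.2.2.2.2.2.2.2.2.2.2.2.2.2.2.2.2.2.2.2.2.2.2.2.2.2.2.2.2.2.2.2.2.2.2.2.2.2.2.2.2.1,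
    Big.fix_comm (T := data.T) (m := data.n) (x := 5) (y := 7) (hi (by decide) (by decide)) fun c hc => (hall c hc).2.2.2.2.2.2.2.2.2.2.2.2.2.2.2.2.2.2.2.2.2.2.2.2.2.2.2.2.2.2.2.2.2.2.2.2.2.2.2.2.2.2.2.2.2.2.1,
    Big.fix_braid (T := data.T) (m := data.n) (x := 5) (y := 8) (hi (by decide) (by decide)) fun c hc => (hall c hc).2.2.2.2.2.2.2.2.2.2.2.2.2.2.2.2.2.2.2.2.2.2.2.2.2.2.2.2.2.2.2.2.2.2.2.2.2.2.2.2.2.2.2.2.2.2.2.1,
    Big.fix_comm (T := data.T) (m := data.n) (x := 5) (y := 9) (hi (by decide) (by decide)) fun c hc => (hall c hc).2.2.2.2.2.2.2.2.2.2.2.2.2.2.2.2.2.2.2.2.2.2.2.2.2.2.2.2.2.2.2.2.2.2.2.2.2.2.2.2.2.2.2.2.2.2.2.2.1,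
    Big.fix_comm (T := data.T) (m := data.n) (x := 5) (y := 10) (hi (by decide) (by decide)) fun c hc => (hall c hc).2.2.2.2.2.2.2.2.2.2.2.2.2.2.2.2.2.2.2.2.2.2.2.2.2.2.2.2.2.2.2.2.2.2.2.2.2.2.2.2.2.2.2.2.2.2.2.2.2.1,
    Big.fix_comm (T := data.T) (m := data.n) (x := 5) (y := 11) (hi (by decide) (by decide)) fun c hc => (hall c hc).2.2.2.2.2.2.2.2.2.2.2.2.2.2.2.2.2.2.2.2.2.2.2.2.2.2.2.2.2.2.2.2.2.2.2.2.2.2.2.2.2.2.2.2.2.2.2.2.2.2.1,
    Big.fix_comm (T := data.T) (m := data.n) (x := 6) (y := 7) (hi (by decide) (by decide)) fun c hc => (hall c hc).2.2.2.2.2.2.2.2.2.2.2.2.2.2.2.2.2.2.2.2.2.2.2.2.2.2.2.2.2.2.2.2.2.2.2.2.2.2.2.2.2.2.2.2.2.2.2.2.2.2.2.1,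
    Big.fix_comm (T := data.T) (m := data.n) (x := 6) (y := 8) (hi (by decide) (by decide)) fun c hc => (hall c hc).2.2.2.2.2.2.2.2.2.2.2.2.2.2.2.2.2.2.2.2.2.2.2.2.2.2.2.2.2.2.2.2.2.2.2.2.2.2.2.2.2.2.2.2.2.2.2.2.2.2.2.2.1,
    Big.fix_comm (T := data.T) (m := data.n) (x := 6) (y := 9) (hi (by decide) (by decide)) fun c hc => (hall c hc).2.2.2.2.2.2.2.2.2.2.2.2.2.2.2.2.2.2.2.2.2.2.2.2.2.2.2.2.2.2.2.2.2.2.2.2.2.2.2.2.2.2.2.2.2.2.2.2.2.2.2.2.2.1,
    Big.fix_comm (T := data.T) (m := data.n) (x := 6) (y := 10) (hi (by decide) (by decide)) fun c hc => (hall c hc).2.2.2.2.2.2.2.2.2.2.2.2.2.2.2.2.2.2.2.2.2.2.2.2.2.2.2.2.2.2.2.2.2.2.2.2.2.2.2.2.2.2.2.2.2.2.2.2.2.2.2.2.2.2.1,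
    Big.fix_comm (T := data.T) (m := data.n) (x := 6) (y := 11) (hi (by decide) (by decide)) fun c hc => (hall c hc).2.2.2.2.2.2.2.2.2.2.2.2.2.2.2.2.2.2.2.2.2.2.2.2.2.2.2.2.2.2.2.2.2.2.2.2.2.2.2.2.2.2.2.2.2.2.2.2.2.2.2.2.2.2.2.1,
    Big.fix_comm (T := data.T) (m := data.n) (x := 7) (y := 8) (hi (by decide) (by decide)) fun c hc => (hall c hc).2.2.2.2.2.2.2.2.2.2.2.2.2.2.2.2.2.2.2.2.2.2.2.2.2.2.2.2.2.2.2.2.2.2.2.2.2.2.2.2.2.2.2.2.2.2.2.2.2.2.2.2.2.2.2.2.1,
    Big.fix_braid (T := data.T) (m := data.n) (x := 7) (y := 9) (hi (by decide) (by decide)) fun c hc => (hall c hc).2.2.2.2.2.2.2.2.2.2.2.2.2.2.2.2.2.2.2.2.2.2.2.2.2.2.2.2.2.2.2.2.2.2.2.2.2.2.2.2.2.2.2.2.2.2.2.2.2.2.2.2.2.2.2.2.2.1,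
    Big.fix_comm (T := data.T) (m := data.n) (x := 7) (y := 10) (hi (by decide) (by decide)) fun c hc => (hall c hc).2.2.2.2.2.2.2.2.2.2.2.2.2.2.2.2.2.2.2.2.2.2.2.2.2.2.2.2.2.2.2.2.2.2.2.2.2.2.2.2.2.2.2.2.2.2.2.2.2.2.2.2.2.2.2.2.2.2.1,
    Big.fix_comm (T := data.T) (m := data.n) (x := 7) (y := 11) (hi (by decide) (by decide)) fun c hc => (hall c hc).2.2.2.2.2.2.2.2.2.2.2.2.2.2.2.2.2.2.2.2.2.2.2.2.2.2.2.2.2.2.2.2.2.2.2.2.2.2.2.2.2.2.2.2.2.2.2.2.2.2.2.2.2.2.2.2.2.2.2.1,
    Big.fix_comm (T := data.T) (m := data.n) (x := 8) (y := 9) (hi (by decide) (by decide)) fun c hc => (hall c hc).2.2.2.2.2.2.2.2.2.2.2.2.2.2.2.2.2.2.2.2.2.2.2.2.2.2.2.2.2.2.2.2.2.2.2.2.2.2.2.2.2.2.2.2.2.2.2.2.2.2.2.2.2.2.2.2.2.2.2.2.1,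
    Big.fix_comm (T := data.T) (m := data.n) (x := 8) (y := 10) (hi (by decide) (by decide)) fun c hc => (hall c hc).2.2.2.2.2.2.2.2.2.2.2.2.2.2.2.2.2.2.2.2.2.2.2.2.2.2.2.2.2.2.2.2.2.2.2.2.2.2.2.2.2.2.2.2.2.2.2.2.2.2.2.2.2.2.2.2.2.2.2.2.2.1,
    Big.fix_braid (T := data.T) (m := data.n) (x := 8) (y := 11) (hi (by decide) (by decide)) fun c hc => (hall c hc).2.2.2.2.2.2.2.2.2.2.2.2.2.2.2.2.2.2.2.2.2.2.2.2.2.2.2.2.2.2.2.2.2.2.2.2.2.2.2.2.2.2.2.2.2.2.2.2.2.2.2.2.2.2.2.2.2.2.2.2.2.2.1,
    Big.fix_comm (T := data.T) (m := data.n) (x := 9) (y := 10) (hi (by decide) (by decide)) fun c hc => (hall c hc).2.2.2.2.2.2.2.2.2.2.2.2.2.2.2.2.2.2.2.2.2.2.2.2.2.2.2.2.2.2.2.2.2.2.2.2.2.2.2.2.2.2.2.2.2.2.2.2.2.2.2.2.2.2.2.2.2.2.2.2.2.2.2.1,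
    Big.fix_comm (T := data.T) (m := data.n) (x := 9) (y := 11) (hi (by decide) (by decide)) fun c hc => (hall c hc).2.2.2.2.2.2.2.2.2.2.2.2.2.2.2.2.2.2.2.2.2.2.2.2.2.2.2.2.2.2.2.2.2.2.2.2.2.2.2.2.2.2.2.2.2.2.2.2.2.2.2.2.2.2.2.2.2.2.2.2.2.2.2.2.1,
    Big.fix_braid (T := data.T) (m := data.n) (x := 10) (y := 11) (hi (by decide) (by decide)) fun c hc => (hall c hc).2.2.2.2.2.2.2.2.2.2.2.2.2.2.2.2.2.2.2.2.2.2.2.2.2.2.2.2.2.2.2.2.2.2.2.2.2.2.2.2.2.2.2.2.2.2.2.2.2.2.2.2.2.2.2.2.2.2.2.2.2.2.2.2.2,
    Big.powEnd_spec (D := data) (u := [8,5,0,1,2,3,4]) (k := 9) (g := 10) (W := pwE) (fun g hg c hc => (tables.closed hg hc).1) (by decide) pe_all,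
    fix_of_powOK tables (u := [6,4,1,9,7,3,2,1,10,11,8,5,0,1]) (k := 17) (W := pwZ) pz_all (by decide)⟩

end H47.Fi24.Tab
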